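import Groth.Agent.CohDerLib.QC.VanBound
import Groth.Agent.CohDerLib.HComp.Site
import Groth.Agent.CohDerLib.HComp.Rlim
import Groth.Agent.KFlat.DerivedLimit
import Groth.Agent.QCoh.Exact
import Groth.Agent.KFlat.Products
import Groth.Prelude.Def_DCoh2

/-!
# Maps from free modules to complexes with quasi-coherent cohomology vanish in high degrees
-/

set_option backward.isDefEq.respectTransparency.types false
set_option backward.isDefEq.respectTransparency false

universe u

open CategoryTheory CategoryTheory.Limits AlgebraicGeometry DerivedCategory Pretriangulated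
open Groth.Agent.CohDerLib

attribute [local instance] HasDerivedCategory.standard

namespace Groth.Agent.CohDerLib.QC

variable {X : Scheme.{u}}

lemma qcoh_iso {M N : X.Modules} (e : M ≅ N) (h : M.IsQuasicoherent) : N.IsQuasicoherent :=
  @Groth.Agent.QCoh.isQuasicoherent_of_iso _ _ _ e h

lemma isQCohD_iso {K L : DCoh.D X} (e : K ≅ L) (h : DCoh.IsQCohD K) : DCoh.IsQCohD L := fun i =>
  qcoh_iso (M := DCoh.HD K i) (N := DCoh.HD L i) ((homologyFunctor X.Modules i).mapIso e) (h i)

lemma qcoh_of_isZero {M : X.Modules} (h : IsZero M) : M.IsQuasicoherent := by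
  let F : PEmpty.{u + 1} → X.Modules := fun x => x.elim
  have h0 : IsZero (∐ F) := by
    rw [IsZero.iff_id_eq_zero]
    exact Sigma.hom_ext _ _ fun x => x.elim
  have : ∀ x, (F x).IsQuasicoherent := fun x => x.elim
  exact qcoh_iso (h0.iso h) inferInstance

lemma isQCohD_of_isIso_or_isZero {E N : DCoh.D X} (hE : DCoh.IsQCohD E)
    (h : ∀ i, IsZero (DCoh.HD N i) ∨ Nonempty (DCoh.HD E i ≅ DCoh.HD N i)) : DCoh.IsQCohD N := fun i => by
  rcases h i with h | ⟨⟨e⟩⟩
  · exact qcoh_of_isZero h
  · exact qcoh_iso e (hE i)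

lemma isQCohD_truncGE {E : DCoh.D X} (hE : DCoh.IsQCohD E) (a : ℤ) :
    DCoh.IsQCohD ((TStructure.t.truncGE a).obj E) := by
  refine isQCohD_of_isIso_or_isZero hE fun i => ?_
  by_cases hi : i < a
  · have : ((TStructure.t.truncGE a).obj E).IsGE a := inferInstance
    exact Or.inl (isZero_of_isGE ((TStructure.t.truncGE a).obj E) a i hi)
  · have := HComp.isIso_homology_truncGEπ E a i (by omega)
    exact Or.inr ⟨asIso ((homologyFunctor X.Modules i).map ((TStructure.t.truncGEπ a).app E))⟩

lemma isIso_homology_truncLTι (E : DCoh.D X) (a i : ℤ) (hi : i < a) :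
    IsIso ((homologyFunctor X.Modules i).map ((TStructure.t.truncLTι a).app E)) :=
  Groth.Agent.KFlat.TruncHom.isIso_H_truncLTι E a i hi

lemma isQCohD_truncLT {E : DCoh.D X} (hE : DCoh.IsQCohD E) (a : ℤ) :
    DCoh.IsQCohD ((TStructure.t.truncLT a).obj E) := by
  refine isQCohD_of_isIso_or_isZero hE fun i => ?_
  by_cases hi : i < a
  · have := isIso_homology_truncLTι E a i hi
    exact Or.inr ⟨(asIso ((homologyFunctor X.Modules i).map ((TStructure.t.truncLTι a).app E))).symm⟩
  · have : ((TStructure.t.truncLT a).obj E).IsLE (a - 1) := inferInstance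
    exact Or.inl (isZero_of_isLE ((TStructure.t.truncLT a).obj E) (a - 1) i (by omega))

lemma isLE_truncGE (E : DCoh.D X) (a b : ℤ) [E.IsLE b] :
    ((TStructure.t.truncGE a).obj E).IsLE b := by
  rw [isLE_iff]
  intro i hi
  by_cases h : i < a
  · have : ((TStructure.t.truncGE a).obj E).IsGE a := inferInstance
    exact isZero_of_isGE ((TStructure.t.truncGE a).obj E) a i h
  · have := HComp.isIso_homology_truncGEπ E a i (by omega)
    exact (isZero_of_isLE E b i hi).of_iso
      (asIso ((homologyFunctor X.Modules i).map ((TStructure.t.truncGEπ a).app E))).symm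

/-- shift in the source -/
noncomputable def singleShiftIso (P : X.Modules) (m k : ℤ) :
    ((singleFunctor X.Modules (m + k)).obj P)⟦k⟧ ≅ (singleFunctor X.Modules m).obj P :=
  ((DerivedCategory.singleFunctors X.Modules).shiftIso k m (m + k) (by omega)).app P

lemma subsingleton_hom_shift (P : X.Modules) (m k : ℤ) (F : DCoh.D X)
    (h : Subsingleton ((singleFunctor X.Modules (m + k)).obj P ⟶ F)) :
    Subsingleton ((singleFunctor X.Modules m).obj P ⟶ F⟦k⟧) :=
  @Equiv.subsingleton _ _ ((singleShiftIso P m k).homFromEquiv.symm.trans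
    (Functor.FullyFaithful.ofFullyFaithful (shiftFunctor (DCoh.D X) k)).homEquiv.symm) h

theorem hom_zero_bounded {P : X.Modules} {d : ℕ} (hP : Van d P) (M : DCoh.D X) (hM : DCoh.IsQCohD M)
    (a b : ℤ) [M.IsGE a] [M.IsLE b] (m : ℤ) (hm : b + d < m) :
    Subsingleton ((singleFunctor X.Modules m).obj P ⟶ M) := by
  obtain ⟨n, hn⟩ : ∃ n : ℕ, b < a + n := ⟨(b - a).toNat + 1, by omega⟩
  induction n generalizing a M with
  | zero =>
    have hz : IsZero M := by
      rw [IsZero.iff_id_eq_zero]
      exact TStructure.t.zero_of_isLE_of_isGE _ b a (by omega) inferInstance inferInstance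
    exact ⟨fun f g => hz.eq_of_tgt f g⟩
  | succ n ih =>
    by_cases hab : b < a
    · exact ih M hM a (by omega)
    let g : M ⟶ (TStructure.t.truncGE (a + 1)).obj M := (TStructure.t.truncGEπ (a + 1)).app M
    obtain ⟨W, f, h, hT, ⟨e⟩⟩ := HComp.fibre_single g a
      (fun i hi => HComp.isIso_homology_truncGEπ M (a + 1) i hi)
    have hW : W.IsQuasicoherent := qcoh_iso e.symm (hM a)
    have := isLE_truncGE M (a + 1) b
    have hN := ih ((TStructure.t.truncGE (a + 1)).obj M) (isQCohD_truncGE hM _) (a + 1) (by omega)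
    refine subsingleton_of_forall_eq 0 fun y => ?_
    obtain ⟨x, hx⟩ := Triangle.coyoneda_exact₂ _ hT y (hN.elim _ _)
    rw [hx, hP W hW m a (by omega) x]
    exact zero_comp

instance hasProduct_nat (K : ℕ → DCoh.D X) : HasProduct K := Groth.Agent.KFlat.Products.hasProduct K

/-- Maps from `P[-m]` vanish for `m` large compared to the cohomology. -/
theorem hom_zero {P : X.Modules} {d : ℕ} (hP : Van d P) (E : DCoh.D X) (hE : DCoh.IsQCohD E)
    (b : ℤ) [E.IsLE b] (m : ℤ) (hm : b + d < m) :
    Subsingleton ((singleFunctor X.Modules m).obj P ⟶ E) := by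
  obtain ⟨c, hT⟩ := Groth.Agent.KFlat.DerivedLimit.exists_triangle (E := E)
    (P₀ := fun U : X.affineOpens => Groth.Agent.KFlat.QCohAcy.free U.1)
    (fun f h => Groth.Agent.KFlat.QCohAcy.eq_zero_of_free_comp f h)
    (fun U j => Groth.Agent.KFlat.QCohAcy.acy_free U.2 (Groth.Agent.KFlat.QCohAcy.good_of_qcoh _ (hE j)))
  let K := Groth.Agent.KFlat.DerivedLimit.tw E
  let t := Groth.Agent.KFlat.DerivedLimit.twt E
  have hn : ∀ n, Subsingleton ((singleFunctor X.Modules (0 + m)).obj P ⟶ K n) := fun n => by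
    have := isLE_truncGE E (-(n : ℤ)) b
    have : (K n).IsGE (-(n : ℤ)) := inferInstanceAs (((TStructure.t.truncGE (-(n : ℤ))).obj E).IsGE _)
    exact hom_zero_bounded hP (K n) (isQCohD_truncGE hE _) (-(n : ℤ)) b _ (by omega)
  have hL : CohCx.IsRlimVia K t E (Groth.Agent.KFlat.DerivedLimit.twπ E) := ⟨c, hT⟩
  have hs : CohCx.LimOneIsZero (fun n => (singleFunctor X.Modules 0).obj P ⟶ (K n)⟦m - 1⟧)
      (fun n => Preadditive.rightComp _ ((shiftFunctor _ (m - 1)).map (t n))) := by
    refine HComp.limOneIsZero_of_eventually_surjective ((d : ℤ) - m).toNat _ _ fun n hn' => ?_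
    obtain ⟨W, f, h, hT', ⟨e⟩⟩ := HComp.fibre_truncGE E (-((n + 1 : ℕ) : ℤ)) (-(n : ℤ)) (by omega)
    have hW : W.IsQuasicoherent := qcoh_iso e.symm (hE _)
    exact HComp.shift_comp_surjective _ hT' _ (m - 1) m (by omega)
      (subsingleton_hom_shift P 0 m _ (subsingleton_of_forall_eq 0 fun x => hP W hW _ _ (by omega) x))
  have h0 : Subsingleton ((singleFunctor X.Modules 0).obj P ⟶ E⟦m⟧) :=
    subsingleton_of_forall_eq 0 fun y => SiteCoh.RlimSeq.eq_zero K t E _ hL _ m hs y fun n =>
      (subsingleton_hom_shift P 0 m (K n) (hn n)).elim _ _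
  refine @Equiv.subsingleton _ _ ?_ h0
  exact ((eqToIso (congrArg (fun i => (singleFunctor X.Modules i).obj P) (zero_add m).symm)).homFromEquiv.trans
    (Functor.FullyFaithful.ofFullyFaithful (shiftFunctor (DCoh.D X) m)).homEquiv).trans
      (singleShiftIso P 0 m).homFromEquiv

/-- comparison with truncations -/
theorem truncGE_bijective {P : X.Modules} {d : ℕ} (hP : Van d P) (E : DCoh.D X) (hE : DCoh.IsQCohD E)
    (a m : ℤ) (hm : a + d < m) :
    Function.Bijective fun g : (singleFunctor X.Modules m).obj P ⟶ E => g ≫ (TStructure.t.truncGEπ a).app E := by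
  have hT := TStructure.t.triangleLTGE_distinguished a E
  have : ((TStructure.t.truncLT a).obj E).IsLE (a - 1) := inferInstance
  have hE' := isQCohD_truncLT hE a
  exact ⟨HComp.comp_injective_of_subsingleton _ hT _ (hom_zero hP ((TStructure.t.truncLT a).obj E) hE' (a - 1) m (by omega)),
    HComp.comp_surjective_of_subsingleton _ hT _ (subsingleton_hom_shift P m 1 ((TStructure.t.truncLT a).obj E)
      (hom_zero hP ((TStructure.t.truncLT a).obj E) hE' (a - 1) (m + 1) (by omega)))⟩

end Groth.Agent.CohDerLib.QC
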