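import Groth.Agent.CohDerLib.QC.PushQCoh
import Groth.Agent.CohDerLib.Acyclic
import Groth.Agent.KFlat.Brutal
import Groth.Agent.KFlat.QCohModel

/-!
# Direct images of complexes of acyclic quasi-coherent modules
-/

set_option backward.isDefEq.respectTransparency.types false
set_option backward.isDefEq.respectTransparency false

universe u

open CategoryTheory CategoryTheory.Limits AlgebraicGeometry DerivedCategory Pretriangulated TopologicalSpace
open Groth.Agent.CohDerLib Groth.Agent.KFlat Groth.Agent.KFlat.RPush Groth.Agent.KFlat.WeakKInj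

attribute [local instance] HasDerivedCategory.standard

namespace Groth.Agent.CohDerLib.QC

variable {X Y : Scheme.{u}}

/-- vanishing is local -/
lemma isZero_of_restrict {M : Y.Modules} {ι : Type*} (V : ι → Y.Opens) (hV : iSup V = ⊤)
    (h : ∀ i, IsZero ((Scheme.Modules.restrictFunctor (V i).ι).obj M)) : IsZero M := by
  rw [IsZero.iff_id_eq_zero]
  ext U x
  change x = 0
  refine Groth.Agent.QCoh.eq_zero_of_locally_eq_zero M (U := fun i => (V i).ι ''ᵁ ((V i).ι ⁻¹ᵁ U))
    (fun i => Scheme.Hom.image_preimage_le _ U) ?_ x fun i => ?_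
  · intro y hy
    have hy' : y ∈ iSup V := hV ▸ trivial
    obtain ⟨i, hi⟩ := Opens.mem_iSup.1 hy'
    exact Opens.mem_iSup.2 ⟨i, ⟨⟨y, hi⟩, hy, rfl⟩⟩
  · have hz := Functor.map_isZero (Groth.Agent.QCoh.sectionsFunctor _ ((V i).ι ⁻¹ᵁ U)) (h i)
    exact @Subsingleton.elim _ (AddCommGrpCat.subsingleton_of_isZero hz) _ _

/-- being an isomorphism is local -/
lemma isIso_of_restrict {M N : Y.Modules} (φ : M ⟶ N) {ι : Type*} (V : ι → Y.Opens) (hV : iSup V = ⊤)
    (h : ∀ i, IsIso ((Scheme.Modules.restrictFunctor (V i).ι).map φ)) : IsIso φ := by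
  have : Mono φ := Preadditive.mono_of_isZero_kernel φ (isZero_of_restrict V hV fun i =>
    have := h i
    (isZero_kernel_of_mono _).of_iso (PreservesKernel.iso (Scheme.Modules.restrictFunctor (V i).ι) φ))
  have : Epi φ := Preadditive.epi_of_isZero_cokernel φ (isZero_of_restrict V hV fun i =>
    have := h i
    (isZero_cokernel_of_epi _).of_iso (PreservesCokernel.iso (Scheme.Modules.restrictFunctor (V i).ι) φ))
  exact isIso_of_mono_of_epi φ

variable (f : X ⟶ Y) [DCoh.HasRpush f]

/-- a K-injective resolution preserved by `f_*` computes the derived direct image -/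
theorem isIso_toRpush_of_quasiIso {F J : CochainComplex X.Modules ℤ} (s : F ⟶ J) [J.IsKInjective] [QuasiIso s]
    (hq : QuasiIso ((pushCx f).map s)) : IsIso ((toRpush f).app F) := by
  have h₁ : IsIso ((toRpush f).app J) := isIso_toRpush f _
  have h₂ : IsIso ((pushQ f).map s) := inferInstanceAs (IsIso (Q.map ((pushCx f).map s)))
  have h₃ : IsIso ((Q ⋙ DCoh.Rpush f).map s) := inferInstanceAs (IsIso ((DCoh.Rpush f).map (Q.map s)))
  have : IsIso ((toRpush f).app F ≫ (Q ⋙ DCoh.Rpush f).map s) := by
    refine (congrArg (fun φ => IsIso φ) ((toRpush f).naturality s)).mp ?_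
    exact IsIso.comp_isIso' h₂ h₁
  exact IsIso.of_isIso_comp_right ((toRpush f).app F) ((Q ⋙ DCoh.Rpush f).map s)

/-- bounded below complexes of acyclic modules -/
theorem isIso_toRpush_of_isStrictlyGE [HasInjectiveResolutions X.Modules] (F : CochainComplex X.Modules ℤ)
    (n : ℤ) [F.IsStrictlyGE n] (hac : ∀ m, Acyclic.Acy (Scheme.Modules.pushforward f) (F.X m)) :
    IsIso ((toRpush f).app F) := by
  have : EnoughInjectives X.Modules := IsGrothendieckAbelian.enoughInjectives
  obtain ⟨M, _, i, hi⟩ := CochainComplex.Plus.exists_quasiIso_injective ⟨F, ⟨n, inferInstance⟩⟩ n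
  have : QuasiIso i.hom := by assumption
  let M' := ((InjectiveObject.ι X.Modules).mapCochainComplexPlus.obj M).obj
  let s : F ⟶ M' := i.hom
  have : QuasiIso s := by assumption
  have hS : M'.IsStrictlyGE n :=
    inferInstanceAs (CochainComplex.IsStrictlyGE (((InjectiveObject.ι X.Modules).mapHomologicalComplex (ComplexShape.up ℤ)).obj M.obj) n)
  have hinj : ∀ k, Injective (M'.X k) := fun k => (M.obj.X k).property
  have hK : M'.IsKInjective := CochainComplex.isKInjective_of_injective M' n
  have hC : (CochainComplex.mappingCone s).IsStrictlyGE (n - 1) := by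
    rw [CochainComplex.isStrictlyGE_iff]
    intro j hj
    have : IsZero (F.X (j + 1) ⊞ M'.X j) := by
      rw [IsZero.iff_id_eq_zero, ← biprod.total,
        (F.isZero_of_isStrictlyGE n (j + 1) (by omega)).eq_of_tgt biprod.fst 0,
        (M'.isZero_of_isStrictlyGE n j (by omega)).eq_of_tgt biprod.snd 0, zero_comp, zero_comp, add_zero]
    exact this.of_iso (HomologicalComplex.homotopyCofiber.XIsoBiprod s j (j + 1) rfl)
  have hq := Acyclic.quasiIso_map (Scheme.Modules.pushforward f) s hac
    (fun m => @Acyclic.acy_of_injective _ _ _ _ _ _ _ (Scheme.Modules.pushforward f) _ (M'.X m) (hinj m))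
    (Acyclic.small_of_isStrictlyGE _ (n - 1))
  refine isIso_toRpush_of_quasiIso f s ?_
  exact (HomologicalComplex.mem_quasiIso_iff _).1 ((HomotopyCategory.quotient_map_mem_quasiIso_iff _).1 hq)

variable [QuasiCompact f] [QuasiSeparated f]

/-- complexes of acyclic quasi-coherent modules -/
theorem isIso_toRpush_of_acyclic [HasInjectiveResolutions X.Modules] (F : CochainComplex X.Modules ℤ)
    (hq : ∀ m, (F.X m).IsQuasicoherent) (hac : ∀ m, Acyclic.Acy (Scheme.Modules.pushforward f) (F.X m)) :
    IsIso ((toRpush f).app F) := by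
  suffices ∀ m, IsIso ((homologyFunctor Y.Modules m).map ((toRpush f).app F)) from
    (DerivedCategory.isIso_iff Y.Modules _).2 this
  intro m
  refine isIso_of_restrict ((homologyFunctor Y.Modules m).map ((toRpush f).app F))
    (fun V : Y.affineOpens => V.1) (iSup_affineOpens_eq_top Y) fun V => ?_
  let R := Scheme.Modules.restrictFunctor V.1.ι
  have : IsAffine V.1.toScheme := V.2
  have := hasRpush (f ∣_ V.1)
  obtain ⟨ι, B, d, hB, hd⟩ := exists_bound (f ∣_ V.1)
  let a : ℤ := m - d - 2
  let F' := ge F a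
  let g : F' ⟶ F := geToSelf F a
  have : F'.IsStrictlyGE a := (CochainComplex.isStrictlyGE_iff _ _).2 fun q hq => isZero_ge_X F hq
  have hz : ∀ (q : ℤ), q < a → IsZero (F'.X q) := fun q hq => isZero_ge_X F hq
  have hgiso : ∀ q, a ≤ q → IsIso (g.f q) := fun q hq => ⟨geπ F a q, geι_π F a q, geπ_ι F hq⟩
  have hac' : ∀ q, Acyclic.Acy (Scheme.Modules.pushforward f) (F'.X q) := fun q i hi => by
    by_cases hq : a ≤ q
    · have := hgiso q hq
      exact (hac q i hi).of_iso (((Scheme.Modules.pushforward f).rightDerived i).mapIso (asIso (g.f q)))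
    · exact Functor.map_isZero _ (hz q (by omega))
  have hq' : ∀ q, (F'.X q).IsQuasicoherent := fun q => by
    by_cases hq2 : a ≤ q
    · have := hgiso q hq2
      exact qcoh_iso (asIso (g.f q)).symm (hq q)
    · exact qcoh_of_isZero (hz q (by omega))
  have h1 : IsIso ((homologyFunctor Y.Modules m).map ((toRpush f).app F')) :=
    @Functor.map_isIso _ _ _ _ _ _ _ _ (isIso_toRpush_of_isStrictlyGE f F' a hac')
  -- the termwise direct images agree near degree `m`
  have h2 : IsIso ((homologyFunctor Y.Modules m).map ((pushQ f).map g)) := by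
    refine (NatIso.isIso_map_iff (homologyFunctorFactors Y.Modules m) _).2 ?_
    let φ := (HomologicalComplex.shortComplexFunctor Y.Modules (ComplexShape.up ℤ) m).map ((pushCx f).map g)
    have hp : ∀ q, a ≤ q → IsIso (((pushCx f).map g).f q) := fun q hq => by
      have := hgiso q hq
      exact inferInstanceAs (IsIso ((Scheme.Modules.pushforward f).map (g.f q)))
    have : IsIso φ.τ₁ := hp _ (by simp; omega)
    have : IsIso φ.τ₂ := hp _ (by omega)
    have : IsIso φ.τ₃ := hp _ (by simp; omega)
    exact inferInstanceAs (IsIso (ShortComplex.homologyMap φ))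
  -- the cone
  let C := CochainComplex.mappingCone g
  have hCq : DCoh.IsQCohD (Q.obj C : DCoh.D X) := QCohModel.isQCohD_Q_of_terms C fun q =>
    qcoh_iso (HomologicalComplex.homotopyCofiber.XIsoBiprod g q (q + 1) rfl).symm
      (@Groth.Agent.QCoh.isQuasicoherent_X₂ _ (ShortComplex.mk biprod.inl biprod.snd biprod.inl_snd)
        (ShortComplex.Splitting.ofHasBinaryBiproduct (F'.X (q + 1)) (F.X q)).shortExact (hq' (q + 1)) (hq q))
  have hgH : ∀ k, a + 1 ≤ k → IsIso ((homologyFunctor X.Modules k).map (Q.map g)) := fun k hk => by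
    refine (NatIso.isIso_map_iff (homologyFunctorFactors X.Modules k) _).2 ?_
    let φ := (HomologicalComplex.shortComplexFunctor X.Modules (ComplexShape.up ℤ) k).map g
    have : IsIso φ.τ₁ := hgiso _ (by simp; omega)
    have : IsIso φ.τ₂ := hgiso _ (by omega)
    have : IsIso φ.τ₃ := hgiso _ (by simp; omega)
    exact inferInstanceAs (IsIso (ShortComplex.homologyMap φ))
  let T := DerivedCategory.Q.mapTriangle.obj (CochainComplex.mappingCone.triangle g)
  have hT : T ∈ distinguishedTriangles := DerivedCategory.mappingCone_triangle_distinguished g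
  have hCle : T.obj₃.IsLE a := (isLE_iff _ _).2 fun k hk => by
    refine (HomologySequence.exact₃ T hT k (k + 1) rfl).isZero_X₂ ?_ ?_
    · have := hgH k (by omega)
      have he : Epi ((homologyFunctor X.Modules k).map T.mor₁) :=
        inferInstanceAs (Epi ((homologyFunctor X.Modules k).map (Q.map g)))
      exact (HomologySequence.epi_homologyMap_mor₁_iff T hT k).1 he
    · have := hgH (k + 1) (by omega)
      have hm : Mono ((homologyFunctor X.Modules (k + 1)).map T.mor₁) :=
        inferInstanceAs (Mono ((homologyFunctor X.Modules (k + 1)).map (Q.map g)))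
      exact (HomologySequence.mono_homologyMap_mor₁_iff T hT k (k + 1) rfl).1 hm
  -- the derived direct images agree near degree `m`, over `V`
  obtain ⟨δ, hT'⟩ := Groth.Agent.KFlat.RPushTriangle.distinguished_Rpush f T hT
  let T'' := (DCoh.restrictD V.1.ι).mapTriangle.obj
    (Triangle.mk ((DCoh.Rpush f).map T.mor₁) ((DCoh.Rpush f).map T.mor₂) δ)
  have hT'' : T'' ∈ distinguishedTriangles := (DCoh.restrictD V.1.ι).map_distinguished _ hT'
  have hr : DCoh.IsQCohD ((DCoh.restrictD (f ⁻¹ᵁ V.1).ι).obj T.obj₃) := fun k =>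
    qcoh_iso (((MapHomology.iso (Scheme.Modules.restrictFunctor (f ⁻¹ᵁ V.1).ι) k).app T.obj₃).symm)
      (@Scheme.Modules.isQuasicoherent_restrictFunctor _ _ (f ⁻¹ᵁ V.1).ι _ _ (hCq k))
  have hrle : ((DCoh.restrictD (f ⁻¹ᵁ V.1).ι).obj T.obj₃).IsLE a := (isLE_iff _ _).2 fun k hk =>
    (Functor.map_isZero (Scheme.Modules.restrictFunctor (f ⁻¹ᵁ V.1).ι) (isZero_of_isLE T.obj₃ a k hk)).of_iso
      ((MapHomology.iso (Scheme.Modules.restrictFunctor (f ⁻¹ᵁ V.1).ι) k).app T.obj₃)
  have hz3 : ∀ k, m - 1 ≤ k → IsZero ((homologyFunctor _ k).obj T''.obj₃) := fun k hk =>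
    (isZero_HD_Rpush (f ∣_ V.1) B hB _ k fun i => hom_zero (hd i) _ hr a k (by omega)).of_iso
      ((homologyFunctor _ k).mapIso ((RPushBase.restrictRpushIso f V.1).app T.obj₃))
  have : Mono ((homologyFunctor _ m).map T''.mor₁) :=
    (HomologySequence.mono_homologyMap_mor₁_iff T'' hT'' (m - 1) m (by omega)).2
      ((hz3 (m - 1) le_rfl).eq_of_src _ _)
  have : Epi ((homologyFunctor _ m).map T''.mor₁) :=
    (HomologySequence.epi_homologyMap_mor₁_iff T'' hT'' m).2 ((hz3 m (by omega)).eq_of_tgt _ _)
  have h3 : IsIso ((homologyFunctor _ m).map T''.mor₁) := isIso_of_mono_of_epi _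
  have h3' : IsIso (R.map ((homologyFunctor Y.Modules m).map ((Q ⋙ DCoh.Rpush f).map g))) :=
    (NatIso.isIso_map_iff (MapHomology.iso R m) ((Q ⋙ DCoh.Rpush f).map g)).1 h3
  have hnat := congrArg (fun φ => R.map ((homologyFunctor Y.Modules m).map φ)) ((toRpush f).naturality g)
  simp only [Functor.map_comp] at hnat
  have : IsIso (R.map ((homologyFunctor Y.Modules m).map ((pushQ f).map g)) ≫
      R.map ((homologyFunctor Y.Modules m).map ((toRpush f).app F))) := by
    rw [hnat]
    exact IsIso.comp_isIso' inferInstance h3'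
  exact IsIso.of_isIso_comp_left (R.map ((homologyFunctor Y.Modules m).map ((pushQ f).map g)))
    (R.map ((homologyFunctor Y.Modules m).map ((toRpush f).app F)))

end Groth.Agent.CohDerLib.QC
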