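import Groth.Agent.CohDerLib.QC.HomBound
import Groth.Agent.CohDerLib.QC.AcyPush
import Groth.Agent.KFlat.MVTriangle
import Groth.Agent.KFlat.QCohModel
import Groth.Agent.PerfTri.Perfect
import Groth.Agent.PerfTri.LocalLift

/-!
# Maps from perfect objects into complexes with quasi-coherent cohomology vanish in high degrees
-/

set_option backward.isDefEq.respectTransparency.types false
set_option backward.isDefEq.respectTransparency false

universe u

open CategoryTheory CategoryTheory.Limits AlgebraicGeometry DerivedCategory Pretriangulated TopologicalSpace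
open Groth.Agent.KFlat Groth.Agent.KFlat.WeakKInj Groth.Agent.PerfTri.Nullhom Groth.Agent.PerfTri.Perfect

attribute [local instance] HasDerivedCategory.standard preservesBinaryBiproducts_of_preservesBiproducts

namespace Groth.Agent.CohDerLib.QC

variable {X : Scheme.{u}}

/-- maps into `D_QCoh` objects concentrated in degrees `< -d` vanish -/
def VanD (d : ℤ) (A : DCoh.D X) : Prop :=
  ∀ E : DCoh.D X, DCoh.IsQCohD E → ∀ b : ℤ, E.IsLE b → b + d < 0 → Subsingleton (A ⟶ E)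

lemma VanD.mono {d d' : ℤ} {A : DCoh.D X} (h : VanD d A) (hd : d ≤ d') : VanD d' A :=
  fun E hE b hb hbd => h E hE b hb (by omega)

lemma VanD.of_iso {d : ℤ} {A B : DCoh.D X} (e : A ≅ B) (h : VanD d A) : VanD d B :=
  fun E hE b hb hbd => @Equiv.subsingleton _ _ (Iso.homFromEquiv e).symm (h E hE b hb hbd)

lemma vanD_isZero {A : DCoh.D X} (hA : IsZero A) (d : ℤ) : VanD d A :=
  fun _ _ _ _ _ => ⟨fun f g => hA.eq_of_src f g⟩

lemma vanD_X₂ (T : Triangle (DCoh.D X)) (hT : T ∈ distinguishedTriangles) {d : ℤ} (h₁ : VanD d T.obj₁)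
    (h₃ : VanD d T.obj₃) : VanD d T.obj₂ := fun E hE b hb hbd =>
  subsingleton_of_forall_eq 0 fun y => by
    obtain ⟨x, hx⟩ := Triangle.yoneda_exact₂ T hT y ((h₁ E hE b hb hbd).elim _ _)
    rw [hx, (h₃ E hE b hb hbd).elim x 0, comp_zero]

lemma vanD_single {P : X.Modules} {d : ℕ} (hP : Van d P) (n : ℤ) :
    VanD (d - n) ((singleFunctor X.Modules n).obj P) :=
  fun E hE b hb hbd => @hom_zero _ _ _ hP E hE b hb n (by omega)

/-- `Hom(P, j_*(I|W))` through the adjunction -/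
theorem subsingleton_to_Rc (P I : CochainComplex X.Modules ℤ) [I.IsKInjective] (W : X.Opens)
    (h : Subsingleton (Q.obj ((DCoh.restrictCx W).obj P) ⟶ Q.obj ((DCoh.restrictCx W).obj I))) :
    Subsingleton (Q.obj P ⟶ Q.obj ((MVTriangle.Rc W).obj I)) := by
  have hW : ((DCoh.restrictCx W).obj I).IsKInjective := ExtZero.isKInjective_restrict W I
  let adj := CxAdj.mapCx (Scheme.Modules.restrictAdjunction W.ι) (ComplexShape.up ℤ)
  have hK : ((MVTriangle.Rc W).obj I).IsKInjective :=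
    Groth.Agent.S0481.result _ _ (Scheme.Modules.restrictAdjunction W.ι) ((DCoh.restrictCx W).obj I) hW
  refine subsingleton_of_forall_eq 0 fun y => ?_
  obtain ⟨φ, rfl⟩ := Groth.Agent.DHA.KInj.Q_map_surjective P ((MVTriangle.Rc W).obj I) y
  let φ' := (adj.homEquiv P ((DCoh.restrictCx W).obj I)).symm φ
  obtain ⟨hh⟩ := Groth.Agent.DHA.KInj.homotopy_of_Q_map_eq (f := φ') (g := 0) (h.elim _ _)
  have e : φ = adj.unit.app P ≫ ((Scheme.Modules.pushforward W.ι).mapHomologicalComplex (ComplexShape.up ℤ)).map φ' :=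
    ((adj.homEquiv P ((DCoh.restrictCx W).obj I)).apply_symm_apply φ).symm.trans (adj.homEquiv_unit P _ φ')
  rw [e, Groth.Agent.DHA.KInj.Q_map_eq_of_homotopy (((Scheme.Modules.pushforward W.ι).mapHomotopy hh).compLeft _),
    Functor.map_zero, comp_zero, Functor.map_zero]

lemma isLE_restr {W : Scheme.{u}} (j : W ⟶ X) [IsOpenImmersion j] (F : CochainComplex X.Modules ℤ) (b : ℤ)
    (h : (Q.obj F).IsLE b) : (Q.obj ((resC j).obj F) : DCoh.D W).IsLE b := (isLE_iff _ _).2 fun k hk =>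
  ((Scheme.Modules.restrictFunctor j).map_isZero
    ((isZero_of_isLE (Q.obj F) b k hk).of_iso ((homologyFunctorFactors X.Modules k).app F).symm)).of_iso
    ((homologyFunctorFactors W.Modules k).app _ ≪≫ (MapHomology.cxIso (Scheme.Modules.restrictFunctor j) k).app F)

/-- a bound for `C` over every scheme immersed onto the open `W` -/
def VanOn (C : CochainComplex X.Modules ℤ) (W : X.Opens) : Prop :=
  ∃ d : ℤ, ∀ (Z : Scheme.{u}) (j : Z ⟶ X) [IsOpenImmersion j], j.opensRange = W →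
    VanD d (Q.obj ((resC j).obj C) : DCoh.D Z)

/-- Mayer–Vietoris step -/
theorem vanOn_sup (C : CochainComplex X.Modules ℤ) (U V : X.Opens) (hU : VanOn C U) (hV : VanOn C V)
    (hUV : VanOn C (U ⊓ V)) : VanOn C (U ⊔ V) := by
  obtain ⟨dU, hU⟩ := hU
  obtain ⟨dV, hV⟩ := hV
  obtain ⟨dW, hUV⟩ := hUV
  refine ⟨max dU (max dV (dW + 1)), fun Z j hj hr E hE b hb hbd => ?_⟩
  let U' := j ⁻¹ᵁ U
  let V' := j ⁻¹ᵁ V
  have hcov : U' ⊔ V' = ⊤ := by
    refine top_le_iff.1 fun z _ => ?_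
    have hz : j z ∈ U ⊔ V := hr ▸ ⟨z, rfl⟩
    exact hz
  let K := Q.objPreimage E
  let I := (RPush.injRes Z).obj K
  let eI : Q.obj I ≅ E := (asIso (Q.map ((RPush.injι Z).app K))).symm ≪≫ Q.objObjPreimageIso E
  have hqI : DCoh.IsQCohD (Q.obj I : DCoh.D Z) := isQCohD_iso eI.symm hE
  have hbI : (Q.obj I).IsLE b := TStructure.t.isLE_of_iso eI.symm b
  have hinj : ∀ n, Injective (I.X n) := fun n => inferInstance
  -- the pieces
  have piece : ∀ (J : CochainComplex Z.Modules ℤ) [J.IsKInjective] (c : ℤ), DCoh.IsQCohD (Q.obj J : DCoh.D Z) →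
      (Q.obj J).IsLE c → ∀ (W : X.Opens), W ≤ j.opensRange → ∀ dd,
        (∀ (Z' : Scheme.{u}) (j' : Z' ⟶ X) [IsOpenImmersion j'], j'.opensRange = W → VanD dd (Q.obj ((resC j').obj C))) →
        c + dd < 0 →
        Subsingleton (Q.obj ((resC j).obj C) ⟶ Q.obj ((MVTriangle.Rc (j ⁻¹ᵁ W)).obj J)) := by
    intro J _ c hJq hJc W hW dd hd hc
    refine subsingleton_to_Rc _ _ _ ?_
    have hr' : ((j ⁻¹ᵁ W).ι ≫ j).opensRange = W := by
      rw [Scheme.Hom.opensRange_comp, Scheme.Opens.opensRange_ι, Scheme.Hom.image_preimage_eq_opensRange_inf]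
      exact inf_eq_right.2 hW
    refine @Equiv.subsingleton _ _
      (Iso.homFromEquiv (Q.mapIso ((resCompIso (j ⁻¹ᵁ W).ι j ((j ⁻¹ᵁ W).ι ≫ j) rfl).app C))) ?_
    exact hd _ ((j ⁻¹ᵁ W).ι ≫ j) hr' _ (QCohModel.isQCohD_restrJ (j ⁻¹ᵁ W).ι hJq) c
      (isLE_restr (j ⁻¹ᵁ W).ι J c hJc) hc
  let S := MVTriangle.scc U' V' I
  have hS : S.ShortExact := MVTriangle.shortExact_scc I hcov
  let T := triangleOfSES hS
  have hT : T ∈ distinguishedTriangles := triangleOfSES_distinguished hS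
  have hle : U ⊔ V ≤ j.opensRange := hr.ge
  have h₂ : Subsingleton (Q.obj ((resC j).obj C) ⟶ T.obj₂) := by
    have h1 := piece I b hqI hbI U (le_sup_left.trans hle) dU (fun Z' j' _ h => hU Z' j' h) (by omega)
    have h2 := piece I b hqI hbI V (le_sup_right.trans hle) dV (fun Z' j' _ h => hV Z' j' h) (by omega)
    refine subsingleton_of_forall_eq 0 fun y => ?_
    have e : (𝟙 T.obj₂) = Q.map biprod.fst ≫ Q.map biprod.inl + Q.map biprod.snd ≫ Q.map biprod.inr := by
      rw [← Q.map_comp, ← Q.map_comp, ← Q.map_add, biprod.total, CategoryTheory.Functor.map_id]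
      rfl
    rw [← Category.comp_id y, e, Preadditive.comp_add, ← Category.assoc, ← Category.assoc,
      h1.elim (y ≫ Q.map biprod.fst) 0, h2.elim (y ≫ Q.map biprod.snd) 0, zero_comp, zero_comp, add_zero]
  have h₃ : Subsingleton (Q.obj ((resC j).obj C) ⟶ (T.obj₃)⟦(-1 : ℤ)⟧) := by
    have hq' : DCoh.IsQCohD (Q.obj (I⟦(-1 : ℤ)⟧) : DCoh.D Z) := fun k =>
      qcoh_iso ((((homologyFunctor Z.Modules 0).shiftIso (-1 : ℤ) k (k - 1) (by omega)).app (Q.obj I)).symm ≪≫
        (homologyFunctor Z.Modules k).mapIso ((Q.commShiftIso (-1 : ℤ)).app I).symm) (hqI (k - 1))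
    have hb' : (Q.obj (I⟦(-1 : ℤ)⟧) : DCoh.D Z).IsLE (b + 1) := by
      have : ((Q.obj I)⟦(-1 : ℤ)⟧).IsLE (b + 1) := TStructure.t.isLE_shift (Q.obj I) b (-1) (b + 1) (by omega)
      exact TStructure.t.isLE_of_iso (X := (Q.obj I)⟦(-1 : ℤ)⟧) ((Q.commShiftIso (-1 : ℤ)).app I).symm (b + 1)
    have h3 := piece (I⟦(-1 : ℤ)⟧) (b + 1) hq' hb' (U ⊓ V) (inf_le_left.trans (le_sup_left.trans hle)) dW
      (fun Z' j' _ h => hUV Z' j' h) (by omega)
    let e : Q.obj ((MVTriangle.Rc (j ⁻¹ᵁ (U ⊓ V))).obj (I⟦(-1 : ℤ)⟧)) ≅ (T.obj₃)⟦(-1 : ℤ)⟧ :=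
      Q.mapIso (((Scheme.Modules.pushforward (j ⁻¹ᵁ (U ⊓ V)).ι).mapHomologicalComplex (ComplexShape.up ℤ)).mapIso
          (((DCoh.restrictCx (j ⁻¹ᵁ (U ⊓ V))).commShiftIso (-1 : ℤ)).app I) ≪≫
        (((Scheme.Modules.pushforward (j ⁻¹ᵁ (U ⊓ V)).ι).mapHomologicalComplex (ComplexShape.up ℤ)).commShiftIso (-1 : ℤ)).app _) ≪≫
        (Q.commShiftIso (-1 : ℤ)).app _
    exact @Equiv.subsingleton _ _ (Iso.homToEquiv e).symm h3
  have hmain : Subsingleton (Q.obj ((resC j).obj C) ⟶ T.obj₁) := by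
    refine subsingleton_of_forall_eq 0 fun y => ?_
    obtain ⟨x, hx⟩ := Triangle.coyoneda_exact₂ _ (inv_rot_of_distTriang _ hT) y (h₂.elim _ _)
    rw [hx, h₃.elim x 0]
    exact zero_comp
  exact @Equiv.subsingleton _ _ (Iso.homToEquiv eI).symm hmain

lemma isZero_modules_of_isEmpty {Z : Scheme.{u}} (hZ : ∀ _ : Z, False) (M : Z.Modules) : IsZero M :=
  isZero_of_restrict (ι := PEmpty.{1}) (fun i => i.elim) (top_le_iff.1 fun z _ => (hZ z).elim) fun i => i.elim

lemma vanOn_bot (C : CochainComplex X.Modules ℤ) : VanOn C ⊥ := by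
  refine ⟨0, fun Z j _ hr => vanD_isZero (Q.map_isZero ?_) 0⟩
  have hZ : ∀ _ : Z, False := fun z => (hr ▸ (⟨z, rfl⟩ : j z ∈ j.opensRange) : j z ∈ (⊥ : X.Opens))
  rw [IsZero.iff_id_eq_zero]
  exact HomologicalComplex.hom_ext _ _ fun n => (isZero_modules_of_isEmpty hZ _).eq_of_src _ _

section Free

open Groth.Agent.Props.GenLocus in
lemma freeTop_aux₁ (X : Scheme.{u}) (σ : Γ(QCohAcy.free (⊤ : X.Opens), ⊤))
    (hσ : σ = QC.sec ⊤ (QCohAcy.free (⊤ : X.Opens)) (𝟙 _)) :
    (QC.sec ⊤ (Coh.structureModule X)).symm (one' ⊤) ≫ homOfSec σ = 𝟙 _ := by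
  apply (QC.sec ⊤ _).injective
  rw [QC.sec_comp, Equiv.apply_symm_apply, ← hσ]
  have h := sec_homOfSec σ ⊤
  rw [Groth.Agent.QCoh.res_self] at h
  exact h

open Groth.Agent.Props.GenLocus in
lemma freeTop_aux₂ (X : Scheme.{u}) (σ : Γ(QCohAcy.free (⊤ : X.Opens), ⊤))
    (hσ : σ = QC.sec ⊤ (QCohAcy.free (⊤ : X.Opens)) (𝟙 _))
    (b : QCohAcy.free (⊤ : X.Opens) ⟶ Coh.structureModule X)
    (hb : QC.sec ⊤ (Coh.structureModule X) b = one' ⊤) :
    homOfSec σ ≫ b = 𝟙 _ := by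
  apply Groth.Agent.PerfTri.LocalLift.hom_ext_sec
  have h := sec_homOfSec σ ⊤
  rw [Groth.Agent.QCoh.res_self] at h
  unfold Groth.Agent.Props.GenLocus.sec at h ⊢
  rw [Scheme.Modules.Hom.comp_app, ConcreteCategory.comp_apply, h, hσ, ← QC.sec_comp, Category.id_comp, hb]
  rfl

/-- `O ≅ free ⊤` -/
noncomputable def freeTopIso (X : Scheme.{u}) : QCohAcy.free (⊤ : X.Opens) ≅ Coh.structureModule X where
  hom := (sec ⊤ (Coh.structureModule X)).symm (Groth.Agent.Props.GenLocus.one' ⊤)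
  inv := Groth.Agent.Props.GenLocus.homOfSec (sec ⊤ (QCohAcy.free (⊤ : X.Opens)) (𝟙 _))
  hom_inv_id := freeTop_aux₁ X _ rfl
  inv_hom_id := freeTop_aux₂ X _ rfl _ (Equiv.apply_symm_apply _ _)

lemma van_of_iso {d : ℕ} {P P' : X.Modules} (e : P ≅ P') (h : Van d P) : Van d P' := fun F hF a b hab f => by
  rw [← cancel_epi ((singleFunctor X.Modules a).map e.hom), comp_zero]
  exact h F hF a b hab _

lemma van_freeMod [IsAffine X] (n : ℕ) : Van 0 (FlatMod.freeMod X n) := by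
  intro F hF a b hab f
  classical
  let O := fun _ : Fin n => Coh.structureModule X
  let p : ∀ i, FlatMod.freeMod X n ⟶ Coh.structureModule X := fun i => Sigma.desc fun j => if j = i then 𝟙 _ else 0
  have e : 𝟙 (FlatMod.freeMod X n) = ∑ i, p i ≫ Sigma.ι O i := by
    refine Sigma.hom_ext _ _ fun j => ?_
    rw [Category.comp_id, Preadditive.comp_sum, Finset.sum_eq_single j]
    · simp [p]; rfl
    · intro i _ hi
      simp [p, hi.symm]
    · simp
  have e' := congrArg (singleFunctor X.Modules a).map e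
  rw [CategoryTheory.Functor.map_id, Functor.map_sum] at e'
  rw [← Category.id_comp f, e', Preadditive.sum_comp]
  refine Finset.sum_eq_zero fun i _ => ?_
  rw [Functor.map_comp, Category.assoc,
    van_of_iso (freeTopIso X) (van_free_of_isAffineOpen (isAffineOpen_top X)) F hF a b hab
      ((singleFunctor X.Modules a).map (Sigma.ι O i) ≫ f), comp_zero]

/-- a bounded complex of free modules on an affine scheme -/
theorem vanD_free [IsAffine X] (S : CochainComplex X.Modules ℤ) (a b : ℤ) (hS : DCoh.VanishesOutside S a b)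
    (hf : ∀ i, ∃ n, Nonempty (S.X i ≅ FlatMod.freeMod X n)) : VanD (-a) (Q.obj S : DCoh.D X) := by
  have key : ∀ k : ℕ, VanD (-a) (Q.obj (ge S (b + 1 - k)) : DCoh.D X) := fun k => by
    induction k with
    | zero =>
      refine vanD_isZero (Q.map_isZero ?_) _
      rw [IsZero.iff_id_eq_zero]
      refine HomologicalComplex.hom_ext _ _ fun q => IsZero.eq_of_src ?_ _ _
      by_cases hq : b + 1 ≤ q
      · exact (hS q (Or.inr (by omega))).of_iso ⟨geι S _ q, geπ S _ q, geι_π S _ q, geπ_ι S (by simpa using hq)⟩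
      · exact isZero_ge_X S (by simp; omega)
    | succ k ih =>
      let m := b + 1 - ((k + 1 : ℕ) : ℤ)
      have hse : (geSeq S m).ShortExact :=
        HomologicalComplex.shortExact_of_degreewise_shortExact _ fun q => (geSplitting S m q).shortExact
      refine vanD_X₂ _ (triangleOfSES_distinguished hse) ?_ ?_
      · change VanD _ (Q.obj (ge S (m + 1)))
        rw [show m + 1 = b + 1 - (k : ℤ) by simp [m]; omega]
        exact ih
      · refine VanD.of_iso (QCohAcy.singleQIso m (S.X m)) ?_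
        by_cases hm : m < a
        · exact vanD_isZero ((singleFunctor X.Modules m).map_isZero (hS m (Or.inl hm))) _
        · obtain ⟨n, ⟨e⟩⟩ := hf m
          exact (vanD_single (van_of_iso e.symm (van_freeMod n)) m).mono (by omega)
  have hiso : IsIso (geToSelf S (b + 1 - ((b + 1 - a).toNat : ℤ))) := by
    have : ∀ q, IsIso ((geToSelf S (b + 1 - ((b + 1 - a).toNat : ℤ))).f q) := fun q => by
      by_cases hq : b + 1 - ((b + 1 - a).toNat : ℤ) ≤ q
      · exact ⟨geπ S _ q, geι_π S _ q, geπ_ι S hq⟩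
      · exact isIso_of_isInitial (isZero_ge_X S (by omega)).isInitial (hS q (Or.inl (by omega))).isInitial _
    exact HomologicalComplex.Hom.isIso_of_components _
  exact VanD.of_iso (asIso (Q.map (geToSelf S (b + 1 - ((b + 1 - a).toNat : ℤ))))) (key _)

lemma free_restrict {W : Scheme.{u}} (k : W ⟶ X) [IsOpenImmersion k] (M : X.Modules) (U : X.Opens) (n : ℕ)
    (h : k.opensRange ≤ U) (e : M.restrict U.ι ≅ FlatMod.freeMod U n) :
    Nonempty (M.restrict k ≅ FlatMod.freeMod W n) := by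
  have hr : Set.range k ⊆ Set.range U.ι := by
    rw [Scheme.Opens.range_ι]
    exact h
  let l := IsOpenImmersion.lift U.ι k hr
  exact ⟨(Scheme.Modules.restrictFunctorCongr (IsOpenImmersion.lift_fac U.ι k hr).symm ≪≫
    Scheme.Modules.restrictFunctorComp l U.ι).app M ≪≫ (Scheme.Modules.restrictFunctor l).mapIso e ≪≫
      Groth.Agent.PerfTri.LocalLift.freeRestrIso l n⟩

end Free

/-- locally a perfect object is a bounded complex of free modules -/
theorem exists_free_local {P : DCoh.D X} (hP : DCoh.IsPerfect P) (C : CochainComplex X.Modules ℤ)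
    (e : Q.obj C ≅ P) (x : X) :
    ∃ (A : X.Opens), IsAffineOpen A ∧ x ∈ A ∧ ∃ (S : CochainComplex (A : Scheme.{u}).Modules ℤ) (a b : ℤ),
      DCoh.VanishesOutside S a b ∧ (∀ i, ∃ n, Nonempty (S.X i ≅ FlatMod.freeMod (A : Scheme.{u}) n)) ∧
      Nonempty (Q.obj ((DCoh.restrictCx A).obj C) ≅ Q.obj S) := by
  classical
  obtain ⟨V, hxV, hV⟩ := hP x
  obtain ⟨S, ⟨⟨a, b, hv⟩, hlf⟩, ⟨eS⟩⟩ := hV C ⟨e⟩
  choose U n hxU hU using fun i => hlf i ⟨x, hxV⟩
  let U₀ : (V : Scheme.{u}).Opens := (Finset.Icc a b).inf U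
  have hx₀ : (⟨x, hxV⟩ : (V : Scheme.{u})) ∈ U₀ := by
    rw [← SetLike.mem_coe]
    simp only [U₀, Opens.coe_finset_inf, Finset.inf_set_eq_iInter, Set.mem_iInter, Function.comp_apply]
    exact fun i _ => hxU i
  obtain ⟨A, hA, hxA, hAU⟩ := exists_isAffineOpen_mem_and_subset (x := x) (U := V.ι ''ᵁ U₀) (show x ∈ (V.ι ''ᵁ U₀ : Set X) from ⟨⟨x, hxV⟩, hx₀, rfl⟩)
  have hAV : A ≤ V := le_trans hAU (V.ι_image_le _)
  let k : (A : Scheme.{u}) ⟶ V := X.homOfLE hAV
  have hk : k.opensRange ≤ U₀ := by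
    rintro z ⟨w, rfl⟩
    obtain ⟨v, hv₀, hv⟩ := hAU (show A.ι w ∈ A from w.2)
    have : v = k w := V.ι.injective (hv.trans (congr(($(X.homOfLE_ι hAV)) w)).symm)
    exact this ▸ hv₀
  refine ⟨A, hA, hxA, (resC k).obj S, a, b, fun i hi => (Scheme.Modules.restrictFunctor k).map_isZero (hv i hi), fun i => ?_, ⟨?_⟩⟩
  · by_cases hi : i ∈ Finset.Icc a b
    · obtain ⟨e'⟩ := hU i
      exact ⟨n i, free_restrict k (S.X i) (U i) (n i) (le_trans hk (Finset.inf_le hi)) e'⟩
    · simp only [Finset.mem_Icc, not_and, not_le] at hi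
      have hz : IsZero (((resC k).obj S).X i) := (Scheme.Modules.restrictFunctor k).map_isZero (hv i (by omega))
      exact ⟨0, ⟨hz.iso ((IsZero.iff_id_eq_zero _).2 (Sigma.hom_ext _ _ fun i => Fin.elim0 i))⟩⟩
  · exact Q.mapIso ((resCompIso k V.ι A.ι (X.homOfLE_ι hAV)).app C).symm ≪≫ (restrQ k _).symm ≪≫
      (DCoh.restrictD k).mapIso eS ≪≫ restrQ k S

/-- Maps from a perfect object into `D_QCoh` vanish in high degrees. -/
theorem exists_vanD_perfect [CompactSpace X] [QuasiSeparatedSpace X] {P : DCoh.D X} (hP : DCoh.IsPerfect P) :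
    ∃ d : ℤ, VanD d P := by
  classical
  let C := Q.objPreimage P
  let e := Q.objObjPreimageIso P
  choose A hA hxA S a b hv hf eS using exists_free_local hP C e
  -- inside one trivialising open
  have h1 : ∀ (x : X) (W : X.Opens), W ≤ A x → IsCompact (W : Set X) → VanOn C W := fun x W hW hc => by
    refine Groth.Agent.CohAff.compact_le_induction (hA x).isQuasiSeparated (fun W _ => VanOn C W) ?_
      (fun U V _ _ _ hU hV hUV => vanOn_sup C U V hU hV hUV) W hW hc
    intro B hB hBa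
    refine ⟨-(a x), fun Z j _ hr => ?_⟩
    have : IsAffine j.opensRange.toScheme := by rw [hr]; exact hBa
    have : IsAffine Z := IsAffine.of_isIso j.isoOpensRange.hom
    have hrg : Set.range j ⊆ Set.range (A x).ι := by
      rw [Scheme.Opens.range_ι]
      intro _ hz
      exact hB (hr.le hz)
    let k := IsOpenImmersion.lift (A x).ι j hrg
    let eZ : Q.obj ((resC k).obj (S x)) ≅ Q.obj ((resC j).obj C) :=
      (restrQ k (S x)).symm ≪≫ (DCoh.restrictD k).mapIso (eS x).some.symm ≪≫ restrQ k _ ≪≫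
        Q.mapIso ((resCompIso k (A x).ι j (IsOpenImmersion.lift_fac _ _ hrg)).app C)
    refine VanD.of_iso eZ (vanD_free ((resC k).obj (S x)) (a x) (b x) (fun i hi => (Scheme.Modules.restrictFunctor k).map_isZero (hv x i hi))
      fun i => ?_)
    obtain ⟨n, ⟨en⟩⟩ := hf x i
    exact ⟨n, ⟨(Scheme.Modules.restrictFunctor k).mapIso en ≪≫ Groth.Agent.PerfTri.LocalLift.freeRestrIso k n⟩⟩
  obtain ⟨σ, hσ⟩ := isCompact_univ.elim_finite_subcover (fun x : X => (A x : Set X)) (fun x => (A x).2)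
    fun x _ => Set.mem_iUnion.2 ⟨x, hxA x⟩
  have h2 : VanOn C (σ.sup A) ∧ IsCompact ((σ.sup A : X.Opens) : Set X) := by
    clear hσ
    induction σ using Finset.induction with
    | empty =>
      rw [Finset.sup_empty]
      exact ⟨vanOn_bot C, by simp⟩
    | insert x s _ ih =>
      rw [Finset.sup_insert]
      refine ⟨vanOn_sup C (A x) (s.sup A) (h1 x (A x) le_rfl (hA x).isCompact) ih.1
        (h1 x _ inf_le_left ?_), by simpa using (hA x).isCompact.union ih.2⟩
      exact (QuasiSeparatedSpace.inter_isCompact _ _ (A x).2 (hA x).isCompact (s.sup A).2 ih.2 :)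
  obtain ⟨d, hd⟩ := h2.1
  have htop : (𝟙 X : X ⟶ X).opensRange = σ.sup A := by
    refine le_antisymm ?_ (fun z _ => ⟨z, rfl⟩)
    intro z _
    obtain ⟨i, hi, hzi⟩ := Set.mem_iUnion₂.1 (hσ (Set.mem_univ z))
    exact Finset.le_sup (f := A) hi hzi
  refine ⟨d, VanD.of_iso (Q.mapIso ((NatIso.mapHomologicalComplex Scheme.Modules.restrictFunctorId (ComplexShape.up ℤ) ≪≫
    Functor.mapHomologicalComplexIdIso _ _).app C) ≪≫ e) (hd X (𝟙 X) htop)⟩

end Groth.Agent.CohDerLib.QC
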