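import Groth.Agent.CohDerLib.QC.HomBound
import Groth.Agent.KFlat.RPushTriangle

/-!
# Derived direct images of complexes with quasi-coherent cohomology: vanishing
-/

set_option backward.isDefEq.respectTransparency.types false
set_option backward.isDefEq.respectTransparency false

universe u

open CategoryTheory CategoryTheory.Limits AlgebraicGeometry DerivedCategory Pretriangulated TopologicalSpace Opposite
open Groth.Agent.CohDerLib Groth.Agent.KFlat.QCohAcy Groth.Agent.KFlat.RPush Groth.Agent.KFlat.WeakKInj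

attribute [local instance] HasDerivedCategory.standard

namespace Groth.Agent.CohDerLib.QC

variable {X Y : Scheme.{u}} (f : X ⟶ Y)

/-- Free modules on a basis separate maps. -/
theorem eq_zero_of_basis {ι : Type*} (B : ι → Y.Opens)
    (hB : ∀ (U : Y.Opens) (x : Y), x ∈ U → ∃ i, x ∈ B i ∧ B i ≤ U)
    {M N : Y.Modules} (φ : M ⟶ N) (h : ∀ (i : ι) (g : free (B i) ⟶ M), g ≫ φ = 0) : φ = 0 := by
  refine Groth.Agent.KFlat.QCohAcy.eq_zero_of_free_comp φ fun U g => ?_
  apply (sec U.1 N).injective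
  rw [sec_zero, sec_comp]
  refine TopCat.Sheaf.eq_of_locally_eq' (Coh.toAb N) (fun i : {i // B i ≤ U.1} => B i.1) U.1
    (fun i => homOfLE i.2) (fun x hx => ?_) _ _ (fun i => ?_)
  · obtain ⟨i, hxi, hi⟩ := hB U.1 x hx
    exact Opens.mem_iSup.2 ⟨⟨i, hi⟩, hxi⟩
  · refine Eq.trans ?_ (map_zero _).symm
    have h1 : freeMap i.2 ≫ g ≫ φ = 0 := by rw [← Category.assoc]; exact h i.1 _
    have h2 := congrArg (sec (B i.1) N) h1
    rw [sec_zero, sec_freeMap, sec_comp] at h2
    exact h2

/-- sections of the direct image as maps on the source -/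
noncomputable def transpose (V : Y.Opens) (M : X.Modules) :
    (free V ⟶ (Scheme.Modules.pushforward f).obj M) ≃ (free (f ⁻¹ᵁ V) ⟶ M) :=
  (sec V ((Scheme.Modules.pushforward f).obj M)).trans (sec (f ⁻¹ᵁ V) M).symm

lemma transpose_comp (V : Y.Opens) {M N : X.Modules}
    (g : free V ⟶ (Scheme.Modules.pushforward f).obj M) (φ : M ⟶ N) :
    transpose f V N (g ≫ (Scheme.Modules.pushforward f).map φ) = transpose f V M g ≫ φ := by
  apply (sec (f ⁻¹ᵁ V) N).injective
  rw [sec_comp]
  simp only [transpose, Equiv.trans_apply, sec_comp]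
  exact ((sec (f ⁻¹ᵁ V) N).apply_symm_apply _).trans
    (congrArg (φ.app (f ⁻¹ᵁ V)) ((sec (f ⁻¹ᵁ V) M).apply_symm_apply _).symm)

lemma transpose_zero (V : Y.Opens) (M : X.Modules) : transpose f V M 0 = 0 := by
  apply (sec (f ⁻¹ᵁ V) M).injective
  simp only [transpose, Equiv.trans_apply, sec_zero]
  exact (sec (f ⁻¹ᵁ V) M).apply_symm_apply _

/-- The direct image of a K-injective complex is exact where there are no classes. -/
theorem exactAt_push {ι : Type*} (B : ι → Y.Opens)
    (hB : ∀ (U : Y.Opens) (x : Y), x ∈ U → ∃ i, x ∈ B i ∧ B i ≤ U)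
    (I : CochainComplex X.Modules ℤ) [I.IsKInjective] (m : ℤ)
    (h : ∀ i, Subsingleton ((singleFunctor X.Modules m).obj (free (f ⁻¹ᵁ B i)) ⟶ Q.obj I)) :
    ((pushCx f).obj I).ExactAt m := by
  let C := (pushCx f).obj I
  rw [HomologicalComplex.exactAt_iff_isZero_homology]
  refine IsZero.of_epi_eq_zero (C.homologyπ m) (eq_zero_of_basis B hB _ fun i g => ?_)
  let u := g ≫ C.iCycles m
  have hu : u ≫ (Scheme.Modules.pushforward f).map (I.d m (m + 1)) = 0 :=
    (Category.assoc _ _ _).trans ((congrArg (g ≫ ·) (C.iCycles_d m (m + 1))).trans comp_zero)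
  let u' := transpose f (B i) (I.X m) u
  have hu' : u' ≫ I.d m (m + 1) = 0 := by
    rw [← transpose_comp, hu, transpose_zero]
  let φ : (HomologicalComplex.single X.Modules (ComplexShape.up ℤ) m).obj (free (f ⁻¹ᵁ B i)) ⟶ I :=
    HomologicalComplex.mkHomFromSingle (c := ComplexShape.up ℤ) u'
      (fun k (hk : m + 1 = k) => by subst hk; exact hu')
  have hφ : Q.map φ = 0 := by
    have := (h i).elim ((singleQIso m _).hom ≫ Q.map φ) 0
    rwa [← cancel_epi (singleQIso m (free (f ⁻¹ᵁ B i))).hom, comp_zero]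
  obtain ⟨hh⟩ := Groth.Agent.DHA.KInj.homotopy_of_Q_map_eq (f := φ) (g := 0) (hφ.trans (Q.map_zero _ _).symm)
  let w' := (HomologicalComplex.singleObjXSelf (ComplexShape.up ℤ) m _).inv ≫ hh.hom m (m - 1)
  have hw' : w' ≫ I.d (m - 1) m = u' := by
    have hc := hh.comm m
    rw [dNext_eq _ (show (ComplexShape.up ℤ).Rel m (m + 1) from rfl),
      prevD_eq _ (show (ComplexShape.up ℤ).Rel (m - 1) m from sub_add_cancel m 1),
      HomologicalComplex.single_obj_d, zero_comp, zero_add, HomologicalComplex.zero_f, add_zero] at hc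
    rw [Category.assoc, ← hc]
    simp [φ]
  let w := (transpose f (B i) (I.X (m - 1))).symm w'
  have hw : w ≫ C.d (m - 1) m = u := by
    apply (transpose f (B i) (I.X m)).injective
    refine (transpose_comp f (B i) w (I.d (m - 1) m)).trans ?_
    rw [Equiv.apply_symm_apply, hw']
  have hg : g = w ≫ C.toCycles (m - 1) m := by
    rw [← cancel_mono (C.iCycles m), Category.assoc, C.toCycles_i, hw]
  rw [hg, Category.assoc, C.toCycles_comp_homologyπ, comp_zero]

/-- vanishing of `H^m(Rf_* E)` -/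
theorem isZero_HD_Rpush [DCoh.HasRpush f] {ι : Type*} (B : ι → Y.Opens)
    (hB : ∀ (U : Y.Opens) (x : Y), x ∈ U → ∃ i, x ∈ B i ∧ B i ≤ U)
    (E : DCoh.D X) (m : ℤ)
    (h : ∀ i, Subsingleton ((singleFunctor X.Modules m).obj (free (f ⁻¹ᵁ B i)) ⟶ E)) :
    IsZero (DCoh.HD ((DCoh.Rpush f).obj E) m) := by
  let K := Q.objPreimage E
  let I := (injRes X).obj K
  let e : Q.obj I ≅ E := (asIso (Q.map ((injι X).app K))).symm ≪≫ Q.objObjPreimageIso E
  have hI := (exactAt_push f B hB I m fun i =>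
    @Equiv.subsingleton _ _ e.homToEquiv (h i))
  rw [HomologicalComplex.exactAt_iff_isZero_homology] at hI
  have := isIso_toRpush f I
  exact hI.of_iso ((homologyFunctor Y.Modules m).mapIso ((DCoh.Rpush f).mapIso e.symm ≪≫
    (asIso ((toRpush f).app I)).symm) ≪≫ (homologyFunctorFactors Y.Modules m).app _)

/-- `H^m(Rf_*E) ⟶ H^m(Rf_*τ≥a E)` is bijective above the vanishing bound. -/
theorem isIso_HD_Rpush_truncGE [DCoh.HasRpush f] {ι : Type*} (B : ι → Y.Opens)
    (hB : ∀ (U : Y.Opens) (x : Y), x ∈ U → ∃ i, x ∈ B i ∧ B i ≤ U) {d : ℕ}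
    (hd : ∀ i, Van d (free (f ⁻¹ᵁ B i)))
    (E : DCoh.D X) (hE : DCoh.IsQCohD E) (a m : ℤ) (hm : a + d ≤ m) :
    IsIso ((homologyFunctor Y.Modules m).map ((DCoh.Rpush f).map ((TStructure.t.truncGEπ a).app E))) := by
  obtain ⟨δ, hT⟩ := Groth.Agent.KFlat.RPushTriangle.distinguished_Rpush f _
    (TStructure.t.triangleLTGE_distinguished a E)
  have : ((TStructure.t.truncLT a).obj E).IsLE (a - 1) := inferInstance
  have hz : ∀ k, m ≤ k → IsZero (DCoh.HD ((DCoh.Rpush f).obj ((TStructure.t.truncLT a).obj E)) k) :=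
    fun k hk => isZero_HD_Rpush f B hB _ k fun i =>
      hom_zero (hd i) _ (isQCohD_truncLT hE a) (a - 1) k (by omega)
  have : Mono ((homologyFunctor Y.Modules m).map ((DCoh.Rpush f).map ((TStructure.t.truncGEπ a).app E))) :=
    (HomologySequence.mono_homologyMap_mor₂_iff _ hT m).2 ((hz m le_rfl).eq_of_src _ _)
  have : Epi ((homologyFunctor Y.Modules m).map ((DCoh.Rpush f).map ((TStructure.t.truncGEπ a).app E))) :=
    (HomologySequence.epi_homologyMap_mor₂_iff _ hT m (m + 1)).2 ((hz (m + 1) (by omega)).eq_of_tgt _ _)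
  exact isIso_of_mono_of_epi ((homologyFunctor Y.Modules m).map ((DCoh.Rpush f).map ((TStructure.t.truncGEπ a).app E)))

end Groth.Agent.CohDerLib.QC
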