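import Groth.Agent.CohDerLib.QC.PushVanish
import Groth.Agent.CohDerLib.Acyclic
import Groth.Agent.S6842
import Mathlib.AlgebraicGeometry.Morphisms.QuasiSeparated

/-!
# Modules flasque for quasi-compact opens; coproducts and direct images
-/

set_option backward.isDefEq.respectTransparency.types false
set_option backward.isDefEq.respectTransparency false

universe u

open CategoryTheory CategoryTheory.Limits AlgebraicGeometry TopologicalSpace Opposite
open Groth.Agent.KFlat.QCohAcy

attribute [local instance] HasDerivedCategory.standard preservesBinaryBiproducts_of_preservesBiproducts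

namespace Groth.Agent.CohDerLib.QC

variable {X Y : Scheme.{u}}

/-- sections as maps, additively -/
noncomputable def secAdd (U : X.Opens) (M : X.Modules) : (free U ⟶ M) ≃+ Γ(M, U) :=
  AddEquiv.mk' (sec U M) (sec_add U)

/-- A map from a free module on a quasi-compact open to a coproduct has finitely many components. -/
lemma exists_factor {ι : Type u} (M : ι → X.Modules) [HasCoproduct M] {W : X.Opens}
    (hW : IsCompact (W : Set X)) (g : free W ⟶ ∐ M) :
    ∃ (S : Finset ι) (t : ∀ i, free W ⟶ M i), g = ∑ i ∈ S, t i ≫ Sigma.ι M i := by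
  obtain ⟨S, t, h⟩ := (Groth.Agent.S6842.result (O := X.sheaf) M W hW).1 (sec W (∐ M) g)
  refine ⟨S, fun i => (sec W (M i)).symm (t i), (secAdd W (∐ M)).injective ?_⟩
  rw [map_sum]
  refine h.trans (Finset.sum_congr rfl fun i _ => ?_)
  exact (congrArg ((Sigma.ι M i).app W) ((sec W (M i)).apply_symm_apply (t i))).symm.trans
    (sec_comp W ((sec W (M i)).symm (t i)) (Sigma.ι M i)).symm

/-- The components are unique. -/
lemma factor_eq_zero {ι : Type u} (M : ι → X.Modules) [HasCoproduct M] {W : X.Opens}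
    (hW : IsCompact (W : Set X)) (S : Finset ι) (t : ∀ i, free W ⟶ M i)
    (h : ∑ i ∈ S, t i ≫ Sigma.ι M i = 0) : ∀ i ∈ S, t i = 0 := by
  intro i hi
  apply (sec W (M i)).injective
  rw [sec_zero]
  refine (Groth.Agent.S6842.result (O := X.sheaf) M W hW).2 S (fun j => sec W (M j) (t j)) ?_ i hi
  refine Eq.trans (Finset.sum_congr rfl fun j _ => (sec_comp W (t j) (Sigma.ι M j)).symm) ?_
  exact (map_sum (secAdd W (∐ M)) (fun j => t j ≫ Sigma.ι M j) S).symm.trans
    ((congrArg (secAdd W (∐ M)) h).trans (map_zero _))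

/-- flasque for quasi-compact opens -/
def QF (G : X.Modules) : Prop :=
  ∀ ⦃W W' : X.Opens⦄ (h : W' ≤ W), IsCompact (W : Set X) → IsQuasiSeparated (W : Set X) →
    IsCompact (W' : Set X) → ∀ g : free W' ⟶ G, ∃ g' : free W ⟶ G, freeMap h ≫ g' = g

lemma qf_injective (G : X.Modules) (hG : Injective G) : QF G := fun W W' h _ _ _ g => by
  have := Groth.Agent.ModShf.isFlasque_toAb_of_injective G hG
  obtain ⟨t, ht⟩ := (AddCommGrpCat.epi_iff_surjective _).1
    (TopCat.Presheaf.IsFlasque.epi (F := (Coh.toAb G).obj) (homOfLE h).op) (sec W' G g)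
  refine ⟨(sec W G).symm t, (sec W' G).injective ?_⟩
  rw [sec_freeMap, Equiv.apply_symm_apply]
  exact ht

lemma qf_coproduct {ι : Type u} (M : ι → X.Modules) [HasCoproduct M] (hM : ∀ i, QF (M i)) : QF (∐ M) := by
  intro W W' h hW hqs hW' g
  obtain ⟨S, t, rfl⟩ := exists_factor M hW' g
  choose t' ht' using fun i => hM i h hW hqs hW' (t i)
  refine ⟨∑ i ∈ S, t' i ≫ Sigma.ι M i, ?_⟩
  rw [Preadditive.comp_sum]
  exact Finset.sum_congr rfl fun i _ => by rw [← Category.assoc, ht']

lemma freeMap_bot {W : X.Opens} (h : (⊥ : X.Opens) ≤ W) {M : X.Modules} (g : free W ⟶ M) :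
    freeMap h ≫ g = 0 := by
  apply (sec ⊥ M).injective
  rw [sec_zero]
  exact Groth.Agent.QCoh.eq_zero_of_locally_eq_zero M (U := fun i : PEmpty.{1} => i.elim) (fun i => i.elim)
    bot_le _ fun i => i.elim

/-- Maps from free modules on qcqs opens lift along epimorphisms with `QF` kernel. -/
theorem exists_lift {S : ShortComplex X.Modules} (hS : S.ShortExact) (h₁ : QF S.X₁) {W : X.Opens}
    (hW : IsCompact (W : Set X)) (hqs : IsQuasiSeparated (W : Set X)) (g : free W ⟶ S.X₃) :
    ∃ a : free W ⟶ S.X₂, a ≫ S.g = g := by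
  classical
  have := hS.mono_f
  have := hS.epi_g
  have hloc : ∀ x : W, ∃ (A : X.Opens) (hA : A ≤ W), IsAffineOpen A ∧ (x : X) ∈ A ∧
      ∃ a : free A ⟶ S.X₂, a ≫ S.g = freeMap hA ≫ g := fun x => by
    obtain ⟨V, hV, hxV, t, ht⟩ := Groth.Agent.QCoh.exists_locally_app_eq S.g W (sec W S.X₃ g) x.1 x.2
    obtain ⟨A, hA, hxA, hAV⟩ := exists_isAffineOpen_mem_and_subset (x := (x : X)) (U := V) hxV
    refine ⟨A, le_trans hAV hV, hA, hxA, freeMap hAV ≫ (sec V S.X₂).symm t, ?_⟩
    have e : (sec V S.X₂).symm t ≫ S.g = freeMap hV ≫ g := by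
      apply (sec V S.X₃).injective
      rw [sec_comp, Equiv.apply_symm_apply, sec_freeMap]
      exact ht
    rw [Category.assoc, e, ← Category.assoc, freeMap_comp]
  choose A hA hAff hxA a ha using hloc
  obtain ⟨σ, hσ⟩ := hW.elim_finite_subcover (fun x : W => (A x : Set X)) (fun x => (A x).2)
    fun x hx => Set.mem_iUnion.2 ⟨⟨x, hx⟩, hxA ⟨x, hx⟩⟩
  let P : X.Opens → Prop := fun U => ∃ (hU : U ≤ W), IsCompact (U : Set X) ∧
    ∃ b : free U ⟶ S.X₂, b ≫ S.g = freeMap hU ≫ g
  suffices hP : P W by
    obtain ⟨hU, -, b, hb⟩ := hP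
    refine ⟨b, hb.trans ((sec W S.X₃).injective ?_)⟩
    rw [sec_freeMap]
    exact Groth.Agent.QCoh.res_self S.X₃ _ _
  have hfin : P (σ.sup A) := by
    clear hσ
    induction σ using Finset.induction with
    | empty =>
      rw [Finset.sup_empty]
      refine ⟨bot_le, by simp, 0, ?_⟩
      rw [zero_comp, freeMap_bot]
    | insert x s _ ih =>
      rw [Finset.sup_insert]
      obtain ⟨hV, hVc, b, hb⟩ := ih
      let U := A x
      let V := s.sup A
      have hd : (freeMap (inf_le_left : U ⊓ V ≤ U) ≫ a x - freeMap (inf_le_right : U ⊓ V ≤ V) ≫ b) ≫ S.g = 0 := by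
        rw [Preadditive.sub_comp, Category.assoc, Category.assoc, ha, hb, ← Category.assoc, ← Category.assoc,
          freeMap_comp, freeMap_comp, sub_self]
      let c := hS.exact.lift _ hd
      have hc : c ≫ S.f = freeMap (inf_le_left : U ⊓ V ≤ U) ≫ a x - freeMap (inf_le_right : U ⊓ V ≤ V) ≫ b :=
        hS.exact.lift_f _ hd
      have hUV : IsCompact ((U ⊓ V : X.Opens) : Set X) :=
        hqs (U : Set X) (V : Set X) (hA x) U.2 (hAff x).isCompact hV V.2 hVc
      obtain ⟨c', hc'⟩ := h₁ (inf_le_left : U ⊓ V ≤ U) (hAff x).isCompact (hqs.of_subset (hA x)) hUV c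
      let a' := a x - c' ≫ S.f
      have hmv : (mv U V).f ≫ biprod.desc a' b = 0 := by
        change (_ - _) ≫ _ = 0
        rw [Preadditive.sub_comp, Category.assoc, Category.assoc, biprod.inl_desc, biprod.inr_desc,
          Preadditive.comp_sub, ← Category.assoc, hc', hc]
        exact (congrArg (· - _) (sub_sub_cancel _ _)).trans (sub_self _)
      let hmvc := (shortExact_mv U V).gIsCokernel
      let q : free (U ⊔ V) ⟶ S.X₂ := hmvc.desc (CokernelCofork.ofπ _ hmv)
      have hq : (mv U V).g ≫ q = biprod.desc a' b := hmvc.fac _ WalkingParallelPair.one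
      refine ⟨sup_le (hA x) hV, by simpa using (hAff x).isCompact.union hVc, q, ?_⟩
      have := (shortExact_mv U V).epi_g
      apply (cancel_epi (mv U V).g).1
      rw [← Category.assoc, hq]
      refine biprod.hom_ext' _ _ ?_ ?_
      · change _ = biprod.inl ≫ biprod.desc _ _ ≫ _
        rw [biprod.inl_desc_assoc, biprod.inl_desc_assoc, ← Category.assoc, freeMap_comp,
          Preadditive.sub_comp, Category.assoc, S.zero, comp_zero, sub_zero, ha]
      · change _ = biprod.inr ≫ biprod.desc _ _ ≫ _
        rw [biprod.inr_desc_assoc, biprod.inr_desc_assoc, ← Category.assoc, freeMap_comp, hb]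
  have e : σ.sup A = W := le_antisymm (Finset.sup_le fun x _ => hA x) fun x hx => by
    obtain ⟨i, hi, hxi⟩ := Set.mem_iUnion₂.1 (hσ hx)
    exact Finset.le_sup (f := A) hi hxi
  rwa [e] at hfin

/-- cokernels -/
theorem qf_X₃ {S : ShortComplex X.Modules} (hS : S.ShortExact) (h₁ : QF S.X₁) (h₂ : QF S.X₂) : QF S.X₃ := by
  intro W W' h hW hqs hW' g
  obtain ⟨a, ha⟩ := exists_lift hS h₁ hW' (hqs.of_subset h) g
  obtain ⟨a', ha'⟩ := h₂ h hW hqs hW' a
  exact ⟨a' ≫ S.g, by rw [← Category.assoc, ha', ha]⟩

variable (f : X ⟶ Y) [QuasiCompact f] [QuasiSeparated f]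

lemma transpose_add (V : Y.Opens) (M : X.Modules) (g g' : free V ⟶ (Scheme.Modules.pushforward f).obj M) :
    transpose f V M (g + g') = transpose f V M g + transpose f V M g' := by
  apply (sec (f ⁻¹ᵁ V) M).injective
  rw [sec_add]
  simp only [transpose, Equiv.trans_apply, sec_add]
  exact ((sec (f ⁻¹ᵁ V) M).apply_symm_apply _).trans (congrArg₂ (· + ·)
    ((sec (f ⁻¹ᵁ V) M).apply_symm_apply _).symm ((sec (f ⁻¹ᵁ V) M).apply_symm_apply _).symm)

/-- the transposition, additively -/
noncomputable def transposeAdd (V : Y.Opens) (M : X.Modules) :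
    (free V ⟶ (Scheme.Modules.pushforward f).obj M) ≃+ (free (f ⁻¹ᵁ V) ⟶ M) :=
  AddEquiv.mk' (transpose f V M) (transpose_add f V M)

/-- affine opens form a basis -/
lemma affine_basis (U : Y.Opens) (y : Y) (hy : y ∈ U) : ∃ A : Y.affineOpens, y ∈ A.1 ∧ A.1 ≤ U :=
  let ⟨A, hA, hyA, hAU⟩ := exists_isAffineOpen_mem_and_subset (x := y) (U := U) hy
  ⟨⟨A, hA⟩, hyA, hAU⟩

/-- `f_*` preserves coproducts -/
theorem isIso_sigmaComparison_push {ι : Type u} (M : ι → X.Modules) :
    IsIso (sigmaComparison (Scheme.Modules.pushforward f) M) := by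
  let F := Scheme.Modules.pushforward f
  let φ := sigmaComparison F M
  have key : ∀ (A : Y.affineOpens) (S : Finset ι) (t : ∀ i, free A.1 ⟶ F.obj (M i)),
      transposeAdd f A.1 (∐ M) ((∑ i ∈ S, t i ≫ Sigma.ι (fun i => F.obj (M i)) i) ≫ φ) =
        ∑ i ∈ S, transposeAdd f A.1 (M i) (t i) ≫ Sigma.ι M i := fun A S t => by
    rw [Preadditive.sum_comp, map_sum]
    refine Finset.sum_congr rfl fun i _ => ?_
    rw [Category.assoc, ι_comp_sigmaComparison]
    exact transpose_comp f A.1 (t i) (Sigma.ι M i)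
  have hc : ∀ A : Y.affineOpens, IsCompact ((f ⁻¹ᵁ A.1 : X.Opens) : Set X) := fun A =>
    f.isCompact_preimage A.2.isCompact
  have : Mono φ := Preadditive.mono_of_kernel_zero
    (eq_zero_of_basis (fun A : Y.affineOpens => A.1) affine_basis (kernel.ι φ) fun A g => by
      obtain ⟨S, t, ht⟩ := exists_factor (fun i => F.obj (M i)) A.2.isCompact (g ≫ kernel.ι φ)
      rw [ht]
      refine Finset.sum_eq_zero fun i hi => ?_
      have h0 := key A S t
      rw [← ht, Category.assoc, kernel.condition, comp_zero, map_zero] at h0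
      have := factor_eq_zero M (hc A) S _ h0.symm i hi
      rw [(transposeAdd f A.1 (M i)).map_eq_zero_iff] at this
      rw [this, zero_comp])
  have : Epi φ := Preadditive.epi_of_cokernel_zero
    (eq_zero_of_basis (fun A : Y.affineOpens => A.1) affine_basis (cokernel.π φ) fun A g => by
      obtain ⟨S, t, ht⟩ := exists_factor M (hc A) (transposeAdd f A.1 (∐ M) g)
      have h0 := key A S fun i => (transposeAdd f A.1 (M i)).symm (t i)
      simp only [AddEquiv.apply_symm_apply] at h0
      rw [← ht] at h0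
      rw [← (transposeAdd f A.1 (∐ M)).injective h0, Category.assoc, cokernel.condition, comp_zero])
  exact isIso_of_mono_of_epi φ

/-- `QF` modules are acyclic for `f_*` -/
theorem acy_of_qf [HasInjectiveResolutions X.Modules] (G : X.Modules) (hG : QF G) :
    Acyclic.Acy (Scheme.Modules.pushforward f) G := by
  intro k hk
  obtain ⟨k, rfl⟩ : ∃ j, k = j + 1 := ⟨k - 1, by omega⟩
  induction k generalizing G with
  | zero =>
    have : EnoughInjectives X.Modules := IsGrothendieckAbelian.enoughInjectives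
    let S := ShortComplex.mk (Injective.ι G) (cokernel.π (Injective.ι G)) (cokernel.condition _)
    have hS : S.ShortExact :=
      { exact := ShortComplex.exact_of_g_is_cokernel S (cokernelIsCokernel _)
        mono_f := inferInstanceAs (Mono (Injective.ι G))
        epi_g := inferInstanceAs (Epi (cokernel.π _)) }
    let F := Scheme.Modules.pushforward f
    let L := Groth.Agent.RDerLES.derivedLES F
    have hI : IsZero ((F.rightDerived (0 + 1)).obj S.X₂) :=
      Acyclic.acy_of_injective (F := F) (Injective.under G) 1 Nat.one_pos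
    have hepi : Epi (F.map S.g) := Preadditive.epi_of_cokernel_zero
      (eq_zero_of_basis (fun A : Y.affineOpens => A.1) affine_basis (cokernel.π (F.map S.g)) fun A g => by
        obtain ⟨a, ha⟩ := exists_lift hS hG (f.isCompact_preimage A.2.isCompact)
          (Scheme.Hom.isQuasiSeparated_preimage f A.2.isQuasiSeparated) (transpose f A.1 S.X₃ g)
        have e : g = (transpose f A.1 S.X₂).symm a ≫ F.map S.g := by
          apply (transpose f A.1 S.X₃).injective
          rw [transpose_comp, Equiv.apply_symm_apply, ha]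
        rw [e, Category.assoc, cokernel.condition, comp_zero])
    have h0 : Epi ((F.rightDerived 0).map S.g) := by
      have e : (F.rightDerived 0).map S.g =
          F.rightDerivedZeroIsoSelf.hom.app S.X₂ ≫ F.map S.g ≫ F.rightDerivedZeroIsoSelf.inv.app S.X₃ := by
        rw [← F.rightDerivedZeroIsoSelf.hom.naturality_assoc S.g, Iso.hom_inv_id_app]
        exact (Category.comp_id _).symm
      rw [e]
      infer_instance
    refine (L.exact₁ S hS 0 (0 + 1) rfl).isZero_X₂ ?_ (hI.eq_of_tgt _ _)
    rw [← cancel_epi ((F.rightDerived 0).map S.g), comp_zero]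
    exact L.comp_δ S hS 0 (0 + 1) rfl
  | succ k ih =>
    have : EnoughInjectives X.Modules := IsGrothendieckAbelian.enoughInjectives
    let S := ShortComplex.mk (Injective.ι G) (cokernel.π (Injective.ι G)) (cokernel.condition _)
    have hS : S.ShortExact :=
      { exact := ShortComplex.exact_of_g_is_cokernel S (cokernelIsCokernel _)
        mono_f := inferInstanceAs (Mono (Injective.ι G))
        epi_g := inferInstanceAs (Epi (cokernel.π _)) }
    let F := Scheme.Modules.pushforward f
    let L := Groth.Agent.RDerLES.derivedLES F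
    have hI : IsZero ((F.rightDerived (k + 1 + 1)).obj S.X₂) :=
      Acyclic.acy_of_injective (F := F) (Injective.under G) (k + 1 + 1) (by omega)
    exact (L.exact₁ S hS (k + 1) (k + 1 + 1) rfl).isZero_X₂
      ((ih S.X₃ (qf_X₃ hS hG (qf_injective _ inferInstance)) (by omega)).eq_of_src _ _) (hI.eq_of_tgt _ _)

end Groth.Agent.CohDerLib.QC
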