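import Groth.Agent.CohDerLib.QC.PushBound
import Groth.Agent.Chow.PushDevissage
import Groth.Agent.S0030
import Groth.Agent.QCoh.Exact
import Groth.Agent.KFlat.RPushBase
import Groth.Agent.KFlat.MapHomology
import Mathlib.Algebra.Homology.Embedding.RestrictionHomology
import Mathlib.Algebra.Homology.DerivedCategory.DerivabilityStructureInjectives

/-!
# Derived direct images preserve quasi-coherent cohomology
-/

set_option backward.isDefEq.respectTransparency.types false
set_option backward.isDefEq.respectTransparency false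

universe u

open CategoryTheory CategoryTheory.Limits AlgebraicGeometry DerivedCategory Pretriangulated TopologicalSpace
open Groth.Agent.CohDerLib Groth.Agent.KFlat.RPush Groth.Agent.KFlat.WeakKInj

attribute [local instance] HasDerivedCategory.standard

namespace Groth.Agent.CohDerLib.QC

variable {X Y : Scheme.{u}}

lemma closed_qcoh (Y : Scheme.{u}) :
    Groth.Agent.Chow.PushDevissage.Closed (fun M : Y.Modules => M.IsQuasicoherent) where
  iso e h := qcoh_iso e h
  ker g h h' := @Groth.Agent.QCoh.isQuasicoherent_kernel _ _ _ g h h'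
  coker g h h' := @Groth.Agent.QCoh.isQuasicoherent_cokernel _ _ _ g h h'
  ext {S} hS h₁ h₃ := @Groth.Agent.QCoh.isQuasicoherent_X₂ _ S hS h₁ h₃

lemma isZero_homology_of_isStrictlyGE {Z : Scheme.{u}} (L : CochainComplex Z.Modules ℤ) (n i : ℤ)
    [L.IsStrictlyGE n] (hi : i < n) : IsZero (L.homology i) :=
  ((ShortComplex.exact_iff_isZero_homology _).1 (ShortComplex.exact_of_isZero_X₂ (L.sc i) (L.isZero_of_isStrictlyGE n i hi)))

/-- positive degrees of a restricted complex -/
lemma restriction_homology {Z : Scheme.{u}} (L : CochainComplex Z.Modules ℤ) (n : ℤ) (j : ℕ) :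
    Nonempty ((L.restriction (ComplexShape.embeddingUpIntGE (n - 1))).homology (j + 1) ≅ L.homology (n + j)) :=
  ⟨L.restrictionHomologyIso (ComplexShape.embeddingUpIntGE (n - 1)) j (j + 1) (j + 2) (by simp) (by simp)
    (i' := n - 1 + j) (j' := n + j) (k' := n + j + 1) rfl
    (show n - 1 + ((j + 1 : ℕ) : ℤ) = n + j by omega) (show n - 1 + ((j + 2 : ℕ) : ℤ) = n + j + 1 by omega)
    ((ComplexShape.up ℤ).prev_eq' (show n - 1 + (j : ℤ) + 1 = n + j by omega))
    ((ComplexShape.up ℤ).next_eq' rfl)⟩

variable (f : X ⟶ Y) [QuasiCompact f] [QuasiSeparated f]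

/-- The direct image of a bounded below complex of injectives with quasi-coherent cohomology. -/
theorem qcoh_homology_push (M' : CochainComplex X.Modules ℤ) (n : ℤ) [M'.IsStrictlyGE n]
    (hinj : ∀ k, Injective (M'.X k)) (h : ∀ i, (M'.homology i).IsQuasicoherent) (i : ℤ) :
    (((pushCx f).obj M').homology i).IsQuasicoherent := by
  let C := (pushCx f).obj M'
  by_cases hi : i < n
  · have : C.IsStrictlyGE n := inferInstanceAs (((pushCx f).obj M').IsStrictlyGE n)
    exact qcoh_of_isZero (isZero_homology_of_isStrictlyGE C n i hi)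
  have : EnoughInjectives X.Modules := IsGrothendieckAbelian.enoughInjectives
  let e := ComplexShape.embeddingUpIntGE (n - 1)
  let K : CochainComplex X.Modules ℕ := M'.restriction e
  let F := Scheme.Modules.pushforward f
  have hK : ∀ m, (K.homology m).IsQuasicoherent := fun m => by
    cases m with
    | zero =>
      have : M'.IsStrictlyGE n := inferInstance
      exact qcoh_of_isZero ((ShortComplex.exact_iff_isZero_homology _).1 (ShortComplex.exact_of_isZero_X₂ (K.sc 0)
        (M'.isZero_of_isStrictlyGE n (n - 1 + ((0 : ℕ) : ℤ)) (by omega))))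
    | succ j =>
      obtain ⟨e'⟩ := restriction_homology M' n j
      exact qcoh_iso e'.symm (h _)
  obtain ⟨j, rfl⟩ : ∃ j : ℕ, i = n + j := ⟨(i - n).toNat, by omega⟩
  have key := Groth.Agent.Chow.PushDevissage.homology_mem (closed_qcoh Y) F K (fun m => hinj _) (j + 1)
    (fun m _ p => @Groth.Agent.S0030.result _ _ f _ _ _ (K.homology m) (hK m) p) (j + 1) le_rfl
  let e₀ : (F.mapHomologicalComplex _).obj K ≅ C.restriction e :=
    HomologicalComplex.Hom.isoOfComponents (fun _ => Iso.refl _)
      (fun _ _ _ => (Category.id_comp _).trans (Category.comp_id _).symm)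
  obtain ⟨e₁⟩ := restriction_homology C n j
  exact qcoh_iso ((HomologicalComplex.homologyFunctor Y.Modules _ (j + 1)).mapIso e₀ ≪≫ e₁) key

/-- `Rf_*` of a bounded below object with quasi-coherent cohomology. -/
theorem isQCohD_Rpush_of_isGE [DCoh.HasRpush f] (E : DCoh.D X) (hE : DCoh.IsQCohD E) (n : ℤ) [E.IsGE n] :
    DCoh.IsQCohD ((DCoh.Rpush f).obj E) := by
  obtain ⟨L, _, ⟨e⟩⟩ := DerivedCategory.exists_iso_Q_obj_of_isGE E n
  have : EnoughInjectives X.Modules := IsGrothendieckAbelian.enoughInjectives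
  obtain ⟨M, _, i, hi⟩ := CochainComplex.Plus.exists_quasiIso_injective ⟨L, ⟨n, inferInstance⟩⟩ n
  have : QuasiIso i.hom := by assumption
  let M' := ((InjectiveObject.ι X.Modules).mapCochainComplexPlus.obj M).obj
  have hS : M'.IsStrictlyGE n :=
    inferInstanceAs (CochainComplex.IsStrictlyGE (((InjectiveObject.ι X.Modules).mapHomologicalComplex (ComplexShape.up ℤ)).obj M.obj) n)
  have hinj : ∀ k, Injective (M'.X k) := fun k => (M.obj.X k).property
  have hK : M'.IsKInjective := CochainComplex.isKInjective_of_injective M' n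
  have := isIso_toRpush f M'
  let e₁ : E ≅ Q.obj M' := e ≪≫ asIso (Q.map i.hom)
  let e' : Q.obj ((pushCx f).obj M') ≅ (DCoh.Rpush f).obj E :=
    asIso ((toRpush f).app M') ≪≫ (DCoh.Rpush f).mapIso e₁.symm
  refine isQCohD_iso e' fun k => ?_
  refine qcoh_iso ((homologyFunctorFactors Y.Modules k).app _).symm (qcoh_homology_push f M' n hinj (fun l => ?_) k)
  exact qcoh_iso ((homologyFunctorFactors X.Modules l).app _) (isQCohD_iso e₁ hE l)

/-- `Rf_*` preserves `D_QCoh` over a quasi-compact base. -/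
theorem isQCohD_Rpush_of_compact [CompactSpace Y] [DCoh.HasRpush f] (E : DCoh.D X) (hE : DCoh.IsQCohD E) :
    DCoh.IsQCohD ((DCoh.Rpush f).obj E) := fun m => by
  obtain ⟨ι, B, d, hB, hd⟩ := exists_bound f
  have := isIso_HD_Rpush_truncGE f B hB hd E hE (m - d) m (by omega)
  have : ((TStructure.t.truncGE (m - d)).obj E).IsGE (m - d) := inferInstance
  exact qcoh_iso (asIso ((homologyFunctor Y.Modules m).map ((DCoh.Rpush f).map ((TStructure.t.truncGEπ (m - d)).app E)))).symm
    (isQCohD_Rpush_of_isGE f _ (isQCohD_truncGE hE _) (m - d) m)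

/-- `Rf_*` preserves `D_QCoh`. -/
theorem isQCohD_Rpush [DCoh.HasRpush f] (E : DCoh.D X) (hE : DCoh.IsQCohD E) :
    DCoh.IsQCohD ((DCoh.Rpush f).obj E) := fun m => by
  refine @Groth.Agent.QCoh.isQuasicoherent_of_isOpenCover _ _ _ (fun V : Y.affineOpens => V.1)
    (iSup_affineOpens_eq_top Y) fun V => ?_
  have : IsAffine V.1.toScheme := V.2
  have := hasRpush (f ∣_ V.1)
  have hr : DCoh.IsQCohD ((DCoh.restrictD (f ⁻¹ᵁ V.1).ι).obj E) := fun k =>
    qcoh_iso (((Groth.Agent.KFlat.MapHomology.iso (Scheme.Modules.restrictFunctor (f ⁻¹ᵁ V.1).ι) k).app E).symm)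
      (@Scheme.Modules.isQuasicoherent_restrictFunctor _ _ (f ⁻¹ᵁ V.1).ι _ _ (hE k))
  have h1 := isQCohD_Rpush_of_compact (f ∣_ V.1) _ hr
  exact qcoh_iso ((Groth.Agent.KFlat.MapHomology.iso (Scheme.Modules.restrictFunctor V.1.ι) m).app _)
    (isQCohD_iso ((Groth.Agent.KFlat.RPushBase.restrictRpushIso f V.1).app E).symm h1 m)

end Groth.Agent.CohDerLib.QC
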