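import Groth.Agent.CohDerLib.QC.PerfHom

/-!
# Perfect objects on quasi-compact schemes are bounded; maps into truncations
-/

set_option backward.isDefEq.respectTransparency.types false
set_option backward.isDefEq.respectTransparency false

universe u

open CategoryTheory CategoryTheory.Limits AlgebraicGeometry DerivedCategory Pretriangulated TopologicalSpace

attribute [local instance] HasDerivedCategory.standard

namespace Groth.Agent.CohDerLib.QC

variable {X : Scheme.{u}}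

/-- perfect objects are bounded above -/
theorem exists_isLE_perfect [CompactSpace X] {P : DCoh.D X} (hP : DCoh.IsPerfect P) :
    ∃ c : ℤ, P.IsLE c := by
  classical
  let C := Q.objPreimage P
  let e := Q.objObjPreimageIso P
  choose A hA hxA S a b hv _ eS using exists_free_local hP C e
  obtain ⟨σ, hσ⟩ := isCompact_univ.elim_finite_subcover (fun x : X => (A x : Set X)) (fun x => (A x).2)
    fun x _ => Set.mem_iUnion.2 ⟨x, hxA x⟩
  obtain ⟨c, hc⟩ : ∃ c : ℤ, ∀ x ∈ σ, b x ≤ c := by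
    obtain ⟨c, hc⟩ := (σ.image b).exists_le
    exact ⟨c, fun x hx => hc _ (Finset.mem_image_of_mem b hx)⟩
  refine ⟨c, (isLE_iff _ _).2 fun k hk => ?_⟩
  refine IsZero.of_iso ?_ (((homologyFunctor X.Modules k).mapIso e.symm) ≪≫ (homologyFunctorFactors X.Modules k).app C)
  refine isZero_of_restrict (fun i : σ => A i.1) (top_le_iff.1 fun z _ => ?_) fun i => ?_
  · obtain ⟨x, hx, hzx⟩ := Set.mem_iUnion₂.1 (hσ (Set.mem_univ z))
    exact Opens.mem_iSup.2 ⟨⟨x, hx⟩, hzx⟩
  · have hz : IsZero ((S i.1).homology k) :=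
      (ShortComplex.exact_iff_isZero_homology _).1
        (ShortComplex.exact_of_isZero_X₂ ((S i.1).sc k) (hv i.1 k (Or.inr (by have := hc i.1 i.2; omega))))
    refine hz.of_iso (((Groth.Agent.KFlat.MapHomology.cxIso (Scheme.Modules.restrictFunctor (A i.1).ι) k).app C).symm ≪≫
      ((homologyFunctorFactors _ k).app _).symm ≪≫ (homologyFunctor _ k).mapIso (eS i.1).some ≪≫
      (homologyFunctorFactors _ k).app _)

lemma subsingleton_of_isLE_isGE {P F : DCoh.D X} (c g : ℤ) [P.IsLE c] [F.IsGE g] (h : c < g) :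
    Subsingleton (P ⟶ F) :=
  subsingleton_of_forall_eq 0 fun φ => TStructure.t.zero φ c g h

lemma subsingleton_shift_iff {P F : DCoh.D X} (i : ℤ) :
    (∀ φ : P⟦-i⟧ ⟶ F, φ = 0) ↔ Subsingleton (P ⟶ F⟦i⟧) := by
  have e := ((shiftEquiv' (DCoh.D X) (-i) i (by omega)).toAdjunction).homEquiv P F
  constructor
  · intro h
    exact @Equiv.subsingleton _ _ e.symm (subsingleton_of_forall_eq 0 h)
  · intro h φ
    exact (@Equiv.subsingleton _ _ e h).elim φ 0

/-- the two ends of a truncation triangle -/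
theorem subsingleton_iff_of_triangle (T : Triangle (DCoh.D X)) (hT : T ∈ distinguishedTriangles) (P : DCoh.D X) (i : ℤ)
    (h₁ : Subsingleton (P ⟶ T.obj₁⟦i⟧)) (h₁' : Subsingleton (P ⟶ T.obj₁⟦i + 1⟧)) :
    Subsingleton (P ⟶ T.obj₂⟦i⟧) ↔ Subsingleton (P ⟶ T.obj₃⟦i⟧) := by
  have hT' := Triangle.shift_distinguished T hT i
  constructor
  · intro h
    refine subsingleton_of_forall_eq 0 fun y => ?_
    have hz : Subsingleton (P ⟶ ((Triangle.shiftFunctor (DCoh.D X) i).obj T).obj₁⟦(1 : ℤ)⟧) :=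
      @Equiv.subsingleton _ _ (Iso.homToEquiv ((shiftFunctorAdd (DCoh.D X) i 1).app T.obj₁)).symm h₁'
    obtain ⟨x, hx⟩ := Triangle.coyoneda_exact₃ _ hT' y (hz.elim _ _)
    rw [hx, h.elim x 0]
    exact zero_comp
  · intro h
    refine subsingleton_of_forall_eq 0 fun y => ?_
    obtain ⟨x, hx⟩ := Triangle.coyoneda_exact₂ _ hT' y (h.elim _ _)
    rw [hx, h₁.elim x 0]
    exact zero_comp

/-- the other end -/
theorem subsingleton_iff_of_triangle' (T : Triangle (DCoh.D X)) (hT : T ∈ distinguishedTriangles) (P : DCoh.D X) (i : ℤ)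
    (h₃ : Subsingleton (P ⟶ T.obj₃⟦i⟧)) (h₃' : Subsingleton (P ⟶ T.obj₃⟦i - 1⟧)) :
    Subsingleton (P ⟶ T.obj₁⟦i⟧) ↔ Subsingleton (P ⟶ T.obj₂⟦i⟧) := by
  refine subsingleton_iff_of_triangle T.invRotate (inv_rot_of_distTriang _ hT) P i ?_ ?_
  · exact @Equiv.subsingleton _ _ (Iso.homToEquiv ((shiftFunctorAdd' (DCoh.D X) (-1) i (i - 1) (by omega)).app T.obj₃)).symm h₃'
  · exact @Equiv.subsingleton _ _ (Iso.homToEquiv ((shiftFunctorAdd' (DCoh.D X) (-1) (i + 1) i (by omega)).app T.obj₃)).symm h₃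

lemma isQCohD_shift {E : DCoh.D X} (hE : DCoh.IsQCohD E) (i : ℤ) : DCoh.IsQCohD (E⟦i⟧) := fun k =>
  qcoh_iso (((homologyFunctor X.Modules 0).shiftIso i k (i + k) rfl).app E).symm (hE (i + k))

theorem subsingleton_hom_shift_of_isLE {P E : DCoh.D X} {d : ℤ} (hd : VanD d P) (hE : DCoh.IsQCohD E)
    (b i : ℤ) [E.IsLE b] (h : b + d < i) : Subsingleton (P ⟶ E⟦i⟧) := by
  have : (E⟦i⟧).IsLE (b - i) := TStructure.t.isLE_shift E b i (b - i) (by omega)
  exact hd _ (isQCohD_shift hE i) (b - i) this (by omega)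

theorem subsingleton_hom_shift_of_isGE {P E : DCoh.D X} (c g i : ℤ) [P.IsLE c] [E.IsGE g] (h : i < g - c) :
    Subsingleton (P ⟶ E⟦i⟧) := by
  have : (E⟦i⟧).IsGE (g - i) := TStructure.t.isGE_shift E g i (g - i) (by omega)
  exact subsingleton_of_isLE_isGE c (g - i) (by omega)

end Groth.Agent.CohDerLib.QC
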