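import Groth.Agent.CohDerLib.QC.PushQCoh
import Groth.Agent.CohDerLib.QC.AcyPush
import Groth.Agent.CohDerLib.Kosz.Geom
import Groth.Agent.DTrunc.DerivedPushAdj
import Groth.Agent.CohDev.Coh
import Groth.Agent.CohDev.Loc
import Groth.Agent.KFlat.FlatPull
import Groth.Agent.S0795

/-!
# Direct images of bounded coherent complexes with proper support
-/

set_option backward.isDefEq.respectTransparency.types false
set_option backward.isDefEq.respectTransparency false

universe u

open CategoryTheory CategoryTheory.Limits AlgebraicGeometry DerivedCategory Pretriangulated TopologicalSpace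
open Groth.Agent.CohDerLib Groth.Agent.KFlat.RPush Groth.Agent.KFlat.WeakKInj

attribute [local instance] HasDerivedCategory.standard

namespace Groth.Agent.CohDerLib.QC

variable {X Y : Scheme.{u}}

lemma closed_coh (Y : Scheme.{u}) [IsLocallyNoetherian Y] :
    Groth.Agent.Chow.PushDevissage.Closed (fun M : Y.Modules => Coh.IsCoh M) where
  iso e h := Groth.Agent.CohDev.isCoh_of_iso e h
  ker g h h' := Groth.Agent.CohDev.isCoh_kernel g h h'.1
  coker g h h' := Groth.Agent.CohDev.isCoh_cokernel g h.1 h'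
  ext hS h₁ h₃ := Groth.Agent.CohDev.isCoh_of_shortExact hS h₁ h₃

lemma isCoh_of_isZero' [IsLocallyNoetherian Y] {M : Y.Modules} (h : IsZero M) (h' : Coh.IsCoh (Coh.structureModule Y)) :
    Coh.IsCoh M :=
  Groth.Agent.CohDev.isCoh_of_iso ((isZero_cokernel_of_epi (𝟙 (Coh.structureModule Y))).iso h)
    ((closed_coh Y).coker _ h' h')

lemma isZero_of_homology {Z : Scheme.{u}} (K : DCoh.D Z)
    (h : ∀ i, IsZero ((homologyFunctor Z.Modules i).obj K)) : IsZero K := by
  have : IsIso (0 : K ⟶ K) := by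
    rw [DerivedCategory.isIso_iff]
    exact fun i => isIso_of_isInitial (h i).isInitial (h i).isInitial _
  rw [IsZero.iff_id_eq_zero]
  exact (cancel_epi (0 : K ⟶ K)).1 (by simp)

/-- the cohomology of the direct image of a bounded below complex of injectives -/
theorem closed_homology_push {Q : Y.Modules → Prop} (hQ : Groth.Agent.Chow.PushDevissage.Closed Q)
    (hQ0 : ∀ M, IsZero M → Q M) (f : X ⟶ Y) (M' : CochainComplex X.Modules ℤ) (n : ℤ) [M'.IsStrictlyGE n]
    (hinj : ∀ k, Injective (M'.X k))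
    (h : ∀ [HasInjectiveResolutions X.Modules] (i : ℤ) (p : ℕ), Q ((Coh.Rpush f p).obj (M'.homology i))) (i : ℤ) :
    Q (((pushCx f).obj M').homology i) := by
  let C := (pushCx f).obj M'
  by_cases hi : i < n
  · have : C.IsStrictlyGE n := inferInstanceAs (((pushCx f).obj M').IsStrictlyGE n)
    exact hQ0 _ (isZero_homology_of_isStrictlyGE C n i hi)
  have : EnoughInjectives X.Modules := IsGrothendieckAbelian.enoughInjectives
  let e := ComplexShape.embeddingUpIntGE (n - 1)
  let K : CochainComplex X.Modules ℕ := M'.restriction e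
  let F := Scheme.Modules.pushforward f
  have hK : ∀ (m : ℕ) (p : ℕ), Q ((F.rightDerived p).obj (K.homology m)) := fun m p => by
    cases m with
    | zero =>
      have : M'.IsStrictlyGE n := inferInstance
      refine hQ0 _ (@Functor.map_isZero _ _ _ _ _ _ _ ?_ _ ((ShortComplex.exact_iff_isZero_homology _).1
        (ShortComplex.exact_of_isZero_X₂ (K.sc 0)
          (M'.isZero_of_isStrictlyGE n (n - 1 + ((0 : ℕ) : ℤ)) (by omega)))))
      have := RDer.rightDerived_additive F p
      exact Functor.preservesZeroMorphisms_of_additive _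
    | succ j =>
      obtain ⟨e'⟩ := restriction_homology M' n j
      exact hQ.iso ((F.rightDerived p).mapIso e'.symm) (h _ p)
  obtain ⟨j, rfl⟩ : ∃ j : ℕ, i = n + j := ⟨(i - n).toNat, by omega⟩
  have key := Groth.Agent.Chow.PushDevissage.homology_mem hQ F K (fun m => hinj _) (j + 1)
    (fun m _ p => hK m p) (j + 1) le_rfl
  let e₀ : (F.mapHomologicalComplex _).obj K ≅ C.restriction e :=
    HomologicalComplex.Hom.isoOfComponents (fun _ => Iso.refl _)
      (fun _ _ _ => (Category.id_comp _).trans (Category.comp_id _).symm)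
  obtain ⟨e₁⟩ := restriction_homology C n j
  exact hQ.iso ((HomologicalComplex.homologyFunctor Y.Modules _ (j + 1)).mapIso e₀ ≪≫ e₁) key

variable (f : X ⟶ Y) [DCoh.HasRpush f]

/-- a complex of injectives computing `Rf_*` of an object bounded below -/
theorem exists_model_push (E : DCoh.D X) (n : ℤ) [E.IsGE n] :
    ∃ M' : CochainComplex X.Modules ℤ, M'.IsStrictlyGE n ∧ (∀ k, Injective (M'.X k)) ∧
      Nonempty (Q.obj M' ≅ E) ∧ Nonempty (Q.obj ((pushCx f).obj M') ≅ (DCoh.Rpush f).obj E) := by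
  obtain ⟨L, _, ⟨e⟩⟩ := DerivedCategory.exists_iso_Q_obj_of_isGE E n
  have : EnoughInjectives X.Modules := IsGrothendieckAbelian.enoughInjectives
  obtain ⟨M, _, i, hi⟩ := CochainComplex.Plus.exists_quasiIso_injective ⟨L, ⟨n, inferInstance⟩⟩ n
  have : QuasiIso i.hom := by assumption
  let M' := ((InjectiveObject.ι X.Modules).mapCochainComplexPlus.obj M).obj
  have hS : M'.IsStrictlyGE n :=
    inferInstanceAs (CochainComplex.IsStrictlyGE (((InjectiveObject.ι X.Modules).mapHomologicalComplex (ComplexShape.up ℤ)).obj M.obj) n)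
  have hinj : ∀ k, Injective (M'.X k) := fun k => (M.obj.X k).property
  have hK : M'.IsKInjective := CochainComplex.isKInjective_of_injective M' n
  have := isIso_toRpush f M'
  let e₁ : E ≅ Q.obj M' := e ≪≫ asIso (Q.map i.hom)
  exact ⟨M', hS, hinj, ⟨e₁.symm⟩, ⟨asIso ((toRpush f).app M') ≪≫ (DCoh.Rpush f).mapIso e₁.symm⟩⟩

theorem isGE_Rpush (E : DCoh.D X) (n : ℤ) [E.IsGE n] : ((DCoh.Rpush f).obj E).IsGE n := by
  obtain ⟨M', hS, _, -, ⟨e⟩⟩ := exists_model_push f E n
  rw [isGE_iff]
  intro i hi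
  have : ((pushCx f).obj M').IsStrictlyGE n := inferInstanceAs (((pushCx f).obj M').IsStrictlyGE n)
  exact (isZero_homology_of_isStrictlyGE _ n i hi).of_iso
    ((homologyFunctor Y.Modules i).mapIso e.symm ≪≫ (homologyFunctorFactors Y.Modules i).app _)

theorem isCohD_Rpush [IsLocallyNoetherian Y] [LocallyOfFiniteType f] (E : DCoh.D X) (n : ℤ) [E.IsGE n]
    (hE : DCoh.IsCohD E) (hsupp : ∀ i : ℤ, ClSub.IsProperOver f (CohB1.support (DCoh.HD E i)))
    (h0 : Coh.IsCoh (Coh.structureModule Y)) :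
    DCoh.IsCohD ((DCoh.Rpush f).obj E) := fun k => by
  obtain ⟨M', hS, hinj, ⟨e₁⟩, ⟨e⟩⟩ := exists_model_push f E n
  refine Groth.Agent.CohDev.isCoh_of_iso ((homologyFunctorFactors Y.Modules k).symm.app _ ≪≫
    (homologyFunctor Y.Modules k).mapIso e) ?_
  refine closed_homology_push (closed_coh Y) (fun M hM => isCoh_of_isZero' hM h0) f M' n hinj (fun i p => ?_) k
  let ei : M'.homology i ≅ DCoh.HD E i :=
    ((homologyFunctorFactors X.Modules i).app M').symm ≪≫ (homologyFunctor X.Modules i).mapIso e₁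
  exact Groth.Agent.CohDev.isCoh_of_iso ((Coh.Rpush f p).mapIso ei.symm)
    (Groth.Agent.S0795.result f (DCoh.HD E i) (hE i) (hsupp i) p)

omit [DCoh.HasRpush f] in
theorem isIso_unit_of_support (U W : X.Opens) (hUW : U ⊔ W = ⊤) [DCoh.HasRpush U.ι]
    (adj : DCoh.restrictD U.ι ⊣ DCoh.Rpush U.ι) (E : DCoh.D X)
    (h : ∀ i, Disjoint (W : Set X) (CohB1.support (DCoh.HD E i))) : IsIso (adj.unit.app E) := by
  have hz : IsZero ((DCoh.restrictD W.ι).obj E) := by
    refine isZero_of_homology _ fun i => ?_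
    exact (Groth.Agent.CohDev.isZero_restrict_of_support W.ι
      (fun x hx => by rw [Scheme.Opens.range_ι]; exact fun hW => Set.disjoint_left.1 (h i) hW hx)).of_iso
      (Kosz.homologyRestrictIso W E i)
  have := hasRpush (U.ι ∣_ W)
  have hz' : IsZero ((DCoh.restrictD W.ι).obj ((DCoh.Rpush U.ι).obj ((DCoh.restrictD U.ι).obj E))) := by
    refine (Functor.map_isZero (DCoh.Rpush (U.ι ∣_ W)) ?_).of_iso
      ((Groth.Agent.KFlat.RPushBase.restrictRpushIso U.ι W).app ((DCoh.restrictD U.ι).obj E))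
    refine isZero_of_homology _ fun i => ?_
    have hs : IsZero ((Scheme.Modules.restrictFunctor ((U.ι ⁻¹ᵁ W).ι ≫ U.ι)).obj (DCoh.HD E i)) :=
      Groth.Agent.CohDev.isZero_restrict_of_support _ fun x hx => by
        rintro ⟨y, rfl⟩
        exact Set.disjoint_left.1 (h i) y.2 hx
    exact hs.of_iso (Kosz.homologyRestrictIso (U.ι ⁻¹ᵁ W) _ i ≪≫
      (Scheme.Modules.restrictFunctor (U.ι ⁻¹ᵁ W).ι).mapIso (Kosz.homologyRestrictIso U E i) ≪≫
      ((Scheme.Modules.restrictFunctorComp (U.ι ⁻¹ᵁ W).ι U.ι).app (DCoh.HD E i)).symm)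
  have hW : IsIso ((DCoh.restrictD W.ι).map (adj.unit.app E)) := isIso_of_isInitial hz.isInitial hz'.isInitial _
  have hU : IsIso ((DCoh.restrictD U.ι).map (adj.unit.app E)) := Kosz.isIso_restrict_unit U adj E
  rw [DerivedCategory.isIso_iff]
  intro i
  refine isIso_of_restrict _ (fun b : Bool => if b then U else W) ?_ fun b => ?_
  · rw [← hUW]
    apply le_antisymm
    · exact iSup_le fun b => by cases b <;> simp
    · exact sup_le (le_iSup_of_le true le_rfl) (le_iSup_of_le false le_rfl)
  have key : ∀ V : X.Opens, IsIso ((DCoh.restrictD V.ι).map (adj.unit.app E)) →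
      IsIso ((Scheme.Modules.restrictFunctor V.ι).map ((homologyFunctor X.Modules i).map (adj.unit.app E))) := by
    intro V hV
    have : IsIso ((DCoh.restrictD V.ι ⋙ homologyFunctor (V : Scheme.{u}).Modules i).map (adj.unit.app E)) :=
      Functor.map_isIso (homologyFunctor (V : Scheme.{u}).Modules i) _
    exact (NatIso.isIso_map_iff (Groth.Agent.KFlat.MapHomology.iso (Scheme.Modules.restrictFunctor V.ι) i)
      (adj.unit.app E)).1 this
  cases b with
  | true => exact key U hU
  | false => exact key W hW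

theorem exists_isLE_Rpush [IsNoetherian Y] [LocallyOfFiniteType f] (E : DCoh.D X) (a b : ℤ) [E.IsGE a] [E.IsLE b]
    (hE : DCoh.IsQCohD E) (hsupp : ∀ i : ℤ, ClSub.IsProperOver f (CohB1.support (DCoh.HD E i))) :
    ∃ b' : ℤ, ((DCoh.Rpush f).obj E).IsLE b' := by
  classical
  have : IsLocallyNoetherian X := LocallyOfFiniteType.isLocallyNoetherian f
  let K : Set X := ⋃ i ∈ Finset.Icc a b, CohB1.support (DCoh.HD E i)
  have hKc : IsCompact K := (Finset.Icc a b).isCompact_biUnion fun i _ => by
    obtain ⟨hZ, hp⟩ := hsupp i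
    have : CompactSpace (Scheme.IdealSheafData.vanishingIdeal ⟨_, hZ⟩).subscheme :=
      QuasiCompact.compactSpace_of_compactSpace
        ((Scheme.IdealSheafData.vanishingIdeal ⟨_, hZ⟩).subschemeι ≫ f)
    have h := isCompact_range (Scheme.IdealSheafData.vanishingIdeal ⟨_, hZ⟩).subschemeι.continuous
    rwa [Scheme.IdealSheafData.range_subschemeι, Scheme.IdealSheafData.coe_support_vanishingIdeal] at h
  obtain ⟨s, hs⟩ := hKc.elim_finite_subcover (fun V : X.affineOpens => (V.1 : Set X)) (fun V => V.1.2)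
    (fun x _ => by
      have hx : x ∈ (⨆ V : X.affineOpens, V.1) := by rw [iSup_affineOpens_eq_top]; trivial
      simpa using Opens.mem_iSup.1 hx)
  let U : X.Opens := ⨆ V ∈ s, (V : X.affineOpens).1
  have hKcl : IsClosed K := Set.Finite.isClosed_biUnion (Finset.Icc a b).finite_toSet fun i _ => (hsupp i).1
  let W : X.Opens := ⟨Kᶜ, hKcl.isOpen_compl⟩
  have hUc : IsCompact (U : Set X) := by
    simp only [U, Opens.coe_iSup]
    exact s.isCompact_biUnion fun V _ => V.2.isCompact
  have hKU : K ⊆ (U : Set X) := fun x hx => by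
    have := hs hx
    simp only [U, Opens.coe_iSup]
    exact this
  have hUW : U ⊔ W = ⊤ := by
    ext x
    simp only [Opens.coe_sup, Set.mem_union, Opens.coe_top, Set.mem_univ, iff_true]
    by_cases hx : x ∈ K
    · exact Or.inl (hKU hx)
    · exact Or.inr hx
  have hdisj : ∀ i, Disjoint (W : Set X) (CohB1.support (DCoh.HD E i)) := fun i => by
    refine Set.disjoint_left.2 fun x hW hx => hW ?_
    by_cases hi : i ∈ Finset.Icc a b
    · exact Set.mem_biUnion hi hx
    · refine absurd (@AddCommGrpCat.subsingleton_of_isZero _ ?_) hx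
      have hz : IsZero (DCoh.HD E i) := by
        rw [Finset.mem_Icc, not_and_or, not_le, not_le] at hi
        rcases hi with hi | hi
        · exact isZero_of_isGE E a i hi
        · exact isZero_of_isLE E b i hi
      exact (Scheme.Modules.toPresheaf X ⋙ TopCat.Presheaf.stalkFunctor AddCommGrpCat.{u} x).map_isZero hz
  have := hasRpush U.ι
  obtain ⟨adj⟩ : Nonempty (DCoh.restrictD U.ι ⊣ DCoh.Rpush U.ι) :=
    Groth.Agent.DTrunc.DerivedPushAdj.nonempty_adjunction (DCoh.Rpush U.ι)
      ((DCoh.pushKh U.ι).totalRightDerivedUnit DerivedCategory.Qh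
        (HomotopyCategory.quasiIso (U : Scheme.{u}).Modules (ComplexShape.up ℤ)))
      (Scheme.Modules.restrictAdjunction U.ι)
  have := isIso_unit_of_support U W hUW adj E hdisj
  have := hasRpush (U.ι ≫ f)
  let EU := (DCoh.restrictD U.ι).obj E
  let e : (DCoh.Rpush (U.ι ≫ f)).obj EU ≅ (DCoh.Rpush f).obj E :=
    (rpushCompIso U.ι f).symm.app EU ≪≫ (DCoh.Rpush f).mapIso (asIso (adj.unit.app E)).symm
  have : CompactSpace (U : Scheme.{u}) := isCompact_iff_compactSpace.1 hUc
  have : IsLocallyNoetherian (U : Scheme.{u}) := inferInstance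
  have : QuasiSeparatedSpace (U : Scheme.{u}) := inferInstance
  have : QuasiCompact (U.ι ≫ f) := AlgebraicGeometry.quasiCompact_of_compactSpace (U.ι ≫ f)
  have : QuasiSeparated (U.ι ≫ f) := QuasiSeparated.of_quasiSeparatedSpace _
  obtain ⟨ι, B, d, hB, hd⟩ := exists_bound (U.ι ≫ f)
  have hEU : DCoh.IsQCohD EU := Kosz.isQCohD_restrictD U hE
  refine ⟨b + d, ?_⟩
  rw [isLE_iff]
  intro m hm
  refine IsZero.of_iso ?_ ((homologyFunctor Y.Modules m).mapIso e.symm)
  have := isIso_HD_Rpush_truncGE (U.ι ≫ f) B hB hd EU hEU (b + 1) m (by omega)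
  refine IsZero.of_iso ?_ (asIso ((homologyFunctor Y.Modules m).map
    ((DCoh.Rpush (U.ι ≫ f)).map ((TStructure.t.truncGEπ (b + 1)).app EU))))
  refine Functor.map_isZero _ (Functor.map_isZero _ ?_)
  refine isZero_of_homology _ fun i => ?_
  by_cases hi : i < b + 1
  · have : ((TStructure.t.truncGE (b + 1)).obj EU).IsGE (b + 1) := inferInstance
    exact isZero_of_isGE _ (b + 1) i hi
  · have := HComp.isIso_homology_truncGEπ EU (b + 1) i (by omega)
    refine IsZero.of_iso ?_ (asIso ((homologyFunctor _ i).map ((TStructure.t.truncGEπ (b + 1)).app EU))).symm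
    exact ((Scheme.Modules.restrictFunctor U.ι).map_isZero (isZero_of_isLE E b i (by omega))).of_iso
      (Kosz.homologyRestrictIso U E i)

end Groth.Agent.CohDerLib.QC
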