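import Groth.Agent.KFlat.QCohAcy
import Groth.Agent.ModShf.GrothAb
import Groth.Agent.KFlat.MVExtZero

/-!
# The Mayer-Vietoris sequence of free modules on opens
-/

set_option backward.isDefEq.respectTransparency.types false
set_option backward.isDefEq.respectTransparency false

universe u

open CategoryTheory CategoryTheory.Limits AlgebraicGeometry TopologicalSpace Opposite
open Groth.Agent.KFlat.QCohAcy

attribute [local instance] HasDerivedCategory.standard preservesBinaryBiproducts_of_preservesBiproducts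

namespace Groth.Agent.CohDerLib.QC

variable {X : Scheme.{u}}

/-- sections as maps out of the free module -/
noncomputable def sec (U : X.Opens) (M : X.Modules) : (free U ⟶ M) ≃ Γ(M, U) :=
  Groth.Agent.KFlat.freeUEquiv (O := X.sheaf) U M

lemma sec_comp (U : X.Opens) {M N : X.Modules} (g : free U ⟶ M) (f : M ⟶ N) :
    sec U N (g ≫ f) = f.app U (sec U M g) :=
  Groth.Agent.KFlat.freeUEquiv_comp (O := X.sheaf) U g f

lemma sec_zero (U : X.Opens) (M : X.Modules) : sec U M 0 = 0 := freeEquiv_zero U M

lemma sec_add (U : X.Opens) {M : X.Modules} (g g' : free U ⟶ M) : sec U M (g + g') = sec U M g + sec U M g' := by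
  have h : ∀ k : free U ⟶ M, sec U M k = k.app U (sec U (free U) (𝟙 _)) := fun k =>
    (congrArg (sec U M) (Category.id_comp k).symm).trans (sec_comp U (𝟙 _) k)
  rw [h, h g, h g']
  rfl

lemma sec_sub (U : X.Opens) {M : X.Modules} (g g' : free U ⟶ M) : sec U M (g - g') = sec U M g - sec U M g' := by
  rw [eq_sub_iff_add_eq, ← sec_add, sub_add_cancel]

/-- the map induced by an inclusion of opens -/
noncomputable def freeMap {U W : X.Opens} (h : W ≤ U) : free W ⟶ free U :=
  (sec W (free U)).symm ((free U).presheaf.map (homOfLE h).op (sec U (free U) (𝟙 _)))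

lemma sec_freeMap {U W : X.Opens} (h : W ≤ U) {M : X.Modules} (g : free U ⟶ M) :
    sec W M (freeMap h ≫ g) = M.presheaf.map (homOfLE h).op (sec U M g) := by
  rw [sec_comp, freeMap, Equiv.apply_symm_apply]
  refine (NatTrans.naturality_apply g.mapPresheaf (homOfLE h).op (sec U (free U) (𝟙 _))).trans ?_
  exact congrArg (fun k => M.presheaf.map (homOfLE h).op k)
    ((sec_comp U (𝟙 _) g).symm.trans (congrArg (sec U M) (Category.id_comp g)))

lemma freeMap_comp {U V W : X.Opens} (h : W ≤ V) (h' : V ≤ U) :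
    freeMap h ≫ freeMap h' = freeMap (h.trans h') := by
  apply (sec W (free U)).injective
  rw [sec_freeMap, freeMap, freeMap, Equiv.apply_symm_apply, Equiv.apply_symm_apply,
    ← ConcreteCategory.comp_apply, ← Functor.map_comp]
  rfl

/-- `0 ⟶ O_{U∩V} ⟶ O_U ⊕ O_V ⟶ O_{U∪V} ⟶ 0` -/
noncomputable def mv (U V : X.Opens) : ShortComplex X.Modules :=
  ShortComplex.mk
    (freeMap (inf_le_left : U ⊓ V ≤ U) ≫ biprod.inl - freeMap (inf_le_right : U ⊓ V ≤ V) ≫ biprod.inr)
    (biprod.desc (freeMap (le_sup_left : U ≤ U ⊔ V)) (freeMap (le_sup_right : V ≤ U ⊔ V)))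
    (by simp only [Preadditive.sub_comp, Category.assoc, biprod.inl_desc, biprod.inr_desc, freeMap_comp,
      sub_self])

theorem shortExact_mv (U V : X.Opens) : (mv U V).ShortExact := by
  have : EnoughInjectives X.Modules := IsGrothendieckAbelian.enoughInjectives
  refine Groth.Agent.KFlat.MVExtZero.shortExact_of_injective _ ?_ ?_ ?_
  · intro G hG x
    have := Groth.Agent.ModShf.isFlasque_toAb_of_injective G hG
    obtain ⟨t, ht⟩ := (AddCommGrpCat.epi_iff_surjective _).1
      (TopCat.Presheaf.IsFlasque.epi (F := (Coh.toAb G).obj) (homOfLE (inf_le_left : U ⊓ V ≤ U)).op)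
      (sec (U ⊓ V) G x)
    refine ⟨biprod.desc ((sec U G).symm t) 0, (sec (U ⊓ V) G).injective ?_⟩
    change sec (U ⊓ V) G ((_ - _) ≫ biprod.desc _ _) = _
    rw [Preadditive.sub_comp, Category.assoc, Category.assoc, biprod.inl_desc, biprod.inr_desc, comp_zero,
      sub_zero, sec_freeMap, Equiv.apply_symm_apply]
    exact ht
  · intro G _ q hq
    let a := sec U G (biprod.inl ≫ q)
    let b := sec V G (biprod.inr ≫ q)
    have hab : G.presheaf.map (homOfLE (inf_le_left : U ⊓ V ≤ U)).op a =
        G.presheaf.map (homOfLE (inf_le_right : U ⊓ V ≤ V)).op b := by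
      change (_ - _) ≫ q = 0 at hq
      rw [Preadditive.sub_comp, Category.assoc, Category.assoc, sub_eq_zero] at hq
      exact (sec_freeMap _ _).symm.trans ((congrArg (sec (U ⊓ V) G) hq).trans (sec_freeMap _ _))
    have hp := IsPullback.of_isLimit (TopCat.Sheaf.isLimitPullbackCone (Coh.toAb G) U V)
    obtain ⟨s, hs1, hs2⟩ := Types.exists_of_isPullback (hp.map (forget AddCommGrpCat)) a b hab
    refine ⟨(sec (U ⊔ V) G).symm s, biprod.hom_ext' _ _ ((sec U G).injective ?_) ((sec V G).injective ?_)⟩
    · change sec U G (biprod.inl ≫ biprod.desc _ _ ≫ _) = _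
      rw [biprod.inl_desc_assoc, sec_freeMap, Equiv.apply_symm_apply]
      exact hs1
    · change sec V G (biprod.inr ≫ biprod.desc _ _ ≫ _) = _
      rw [biprod.inr_desc_assoc, sec_freeMap, Equiv.apply_symm_apply]
      exact hs2
  · intro G r hr
    have h1 : freeMap (le_sup_left : U ≤ U ⊔ V) ≫ r = 0 := by
      simpa [mv] using congrArg (biprod.inl ≫ ·) hr
    have h2 : freeMap (le_sup_right : V ≤ U ⊔ V) ≫ r = 0 := by
      simpa [mv] using congrArg (biprod.inr ≫ ·) hr
    apply (sec (U ⊔ V) G).injective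
    rw [sec_zero]
    refine TopCat.Sheaf.eq_of_locally_eq₂ (Coh.toAb G) (homOfLE le_sup_left) (homOfLE le_sup_right)
      le_rfl _ _ ?_ ?_
    · exact ((sec_freeMap _ r).symm.trans ((congrArg (sec U G) h1).trans (sec_zero U G))).trans (map_zero _).symm
    · exact ((sec_freeMap _ r).symm.trans ((congrArg (sec V G) h2).trans (sec_zero V G))).trans (map_zero _).symm

end Groth.Agent.CohDerLib.QC
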