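import Groth.Agent.CohDerLib.QC.PushVanish
import Mathlib.AlgebraicGeometry.Morphisms.QuasiSeparated

/-!
# Uniform bounds on qcqs morphisms
-/

set_option backward.isDefEq.respectTransparency.types false
set_option backward.isDefEq.respectTransparency false

universe u

open CategoryTheory CategoryTheory.Limits AlgebraicGeometry TopologicalSpace
open Groth.Agent.CohDerLib Groth.Agent.KFlat.QCohAcy

attribute [local instance] HasDerivedCategory.standard preservesBinaryBiproducts_of_preservesBiproducts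

namespace Groth.Agent.CohDerLib.QC

variable {X Y : Scheme.{u}}

/-- uniform bound on the basic opens of a qcqs open -/
theorem exists_van_basic {X₀ : X.Opens} (hqs : IsQuasiSeparated (X₀ : Set X)) (hc : IsCompact (X₀ : Set X)) :
    ∃ d, ∀ g : Γ(X, X₀), Van d (free (X.basicOpen g)) := by
  suffices H : ∃ d, ∀ g : Γ(X, X₀), Van d (free (X₀ ⊓ X.basicOpen g)) by
    obtain ⟨d, hd⟩ := H
    exact ⟨d, fun g => inf_eq_right.2 (X.basicOpen_le g) ▸ hd g⟩
  refine Groth.Agent.CohAff.compact_le_induction hqs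
    (fun W _ => ∃ d, ∀ g : Γ(X, X₀), Van d (free (W ⊓ X.basicOpen g))) ?_ ?_ X₀ le_rfl hc
  · intro A hA₀ hA
    refine ⟨0, fun g => van_free_of_isAffineOpen ?_⟩
    have := hA.basicOpen (X.presheaf.map (homOfLE hA₀).op g)
    rwa [Scheme.basicOpen_res] at this
  · rintro U V h - - ⟨dU, hU⟩ ⟨dV, hV⟩ ⟨dW, hUV⟩
    refine ⟨max dU (max dV dW) + 1, fun g => ?_⟩
    rw [inf_sup_right]
    refine van_X₃ (shortExact_mv (U ⊓ X.basicOpen g) (V ⊓ X.basicOpen g))
      (((hU g).mono (by omega)).biprod ((hV g).mono (by omega))) ?_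
    change Van _ (free (U ⊓ X.basicOpen g ⊓ (V ⊓ X.basicOpen g)))
    rw [← inf_inf_distrib_right]
    exact (hUV g).mono (by omega)

variable (f : X ⟶ Y) [QuasiCompact f] [QuasiSeparated f]

/-- bound over one affine open -/
theorem exists_bound_affine {A : Y.Opens} (hA : IsAffineOpen A) :
    ∃ d, ∀ g : Γ(Y, A), Van d (free (f ⁻¹ᵁ Y.basicOpen g)) := by
  obtain ⟨d, hd⟩ := exists_van_basic (X₀ := f ⁻¹ᵁ A)
    (Scheme.Hom.isQuasiSeparated_preimage f hA.isQuasiSeparated) (f.isCompact_preimage hA.isCompact)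
  refine ⟨d, fun g => ?_⟩
  rw [Scheme.preimage_basicOpen]
  exact hd _

/-- bound on a basis when the target is quasi-compact -/
theorem exists_bound [CompactSpace Y] :
    ∃ (ι : Type u) (B : ι → Y.Opens) (d : ℕ),
      (∀ (U : Y.Opens) (y : Y), y ∈ U → ∃ i, y ∈ B i ∧ B i ≤ U) ∧
      ∀ i, Van d (free (f ⁻¹ᵁ B i)) := by
  obtain ⟨s, hs, e⟩ := (isCompact_iff_finite_and_eq_biUnion_affineOpens (U := (⊤ : Y.Opens))).mp
    isCompact_univ
  choose d hd using fun A : Y.affineOpens => exists_bound_affine f A.2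
  refine ⟨Σ A : s, Γ(Y, A.1.1), fun i => Y.basicOpen i.2, hs.toFinset.sup d, fun U y hy => ?_,
    fun i => (hd i.1.1 i.2).mono (Finset.le_sup (hs.mem_toFinset.2 i.1.2))⟩
  have hy' : y ∈ (⊤ : Y.Opens) := trivial
  rw [e, Opens.mem_iSup] at hy'
  obtain ⟨A, hA⟩ := hy'
  rw [Opens.mem_iSup] at hA
  obtain ⟨hAs, hyA⟩ := hA
  obtain ⟨g, hg, hyg⟩ := A.2.exists_basicOpen_le ⟨y, hy⟩ hyA
  exact ⟨⟨⟨A, hAs⟩, g⟩, hyg, hg⟩

end Groth.Agent.CohDerLib.QC
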