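import Groth.Agent.CohDerLib.QC.QFlasque
import Groth.Agent.CohDerLib.QC.AcyPush
import Groth.Agent.KFlat.Products
import Groth.Agent.KFlat.HomologyColim
import Groth.Agent.DHA.KInj.Products
import Groth.Agent.DHA.Brown.Coprod
import Groth.Agent.S1040

/-!
# Derived direct images and coproducts
-/

set_option backward.isDefEq.respectTransparency.types false
set_option backward.isDefEq.respectTransparency false

universe u

open CategoryTheory CategoryTheory.Limits AlgebraicGeometry DerivedCategory Pretriangulated TopologicalSpace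
open Groth.Agent.KFlat Groth.Agent.KFlat.RPush Groth.Agent.KFlat.WeakKInj

attribute [local instance] HasDerivedCategory.standard

namespace Groth.Agent.CohDerLib.QC

variable {X Y : Scheme.{u}} {ι : Type u}

/-- cohomology sheaves commute with coproducts -/
theorem preservesColimit_homology (K : ι → DCoh.D X) (m : ℤ) :
    PreservesColimit (Discrete.functor K) (homologyFunctor X.Modules m) := by
  let C := fun i => Q.objPreimage (K i)
  obtain ⟨hc⟩ := Groth.Agent.DHA.KInj.nonempty_isColimit_Q (T := ι)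
    Groth.Agent.KFlat.Products.exists_isKInjective_resolution C
  let H := homologyFunctor X.Modules m
  let Hc := HomologicalComplex.homologyFunctor X.Modules (ComplexShape.up ℤ) m
  have h := isColimitCofanMkObjOfIsColimit Hc C _ (coproductIsCoproduct C)
  have : PreservesColimit (Discrete.functor fun i => Q.obj (C i)) H := by
    refine preservesColimit_of_preserves_colimit_cocone hc ?_
    refine (isColimitMapCoconeCofanMkEquiv H (fun i => Q.obj (C i)) _).symm ?_
    let w : Discrete.functor (fun i => Hc.obj (C i)) ≅ Discrete.functor fun i => H.obj (Q.obj (C i)) :=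
      Discrete.natIso fun i => ((homologyFunctorFactors X.Modules m).app (C i.as)).symm
    refine IsColimit.equivOfNatIsoOfIso w _ (Cofan.mk (H.obj (Q.obj (∐ C))) fun i => H.map (Q.map (Sigma.ι C i))) ?_ h
    exact (Cocone.ext ((homologyFunctorFactors X.Modules m).app _).symm (fun ⟨i⟩ => by
        dsimp
        rw [Category.assoc]
        dsimp [w]
        erw [(homologyFunctorFactors X.Modules m).inv.naturality (Sigma.ι C i)]
        exact Iso.hom_inv_id_app_assoc _ _ _))
  exact preservesColimit_of_iso_diagram H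
    (Discrete.natIso fun i => Q.objObjPreimageIso (K i.as) : (Discrete.functor fun i => Q.obj (C i)) ≅ Discrete.functor K)

variable (f : X ⟶ Y) [QuasiCompact f] [QuasiSeparated f]

/-- termwise direct images commute with coproducts -/
theorem nonempty_isColimit_pushCx (I : ι → CochainComplex X.Modules ℤ) :
    Nonempty (IsColimit (Cofan.mk ((pushCx f).obj (∐ I)) fun i => (pushCx f).map (Sigma.ι I i))) := by
  refine ⟨HomologicalComplex.isColimitOfEval _ _ fun q => ?_⟩
  have := isIso_sigmaComparison_push f (fun i => (I i).X q)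
  have : PreservesColimit (Discrete.functor fun i => (I i).X q) (Scheme.Modules.pushforward f) :=
    PreservesCoproduct.of_iso_comparison _ _
  refine (isColimitMapCoconeCofanMkEquiv (HomologicalComplex.eval Y.Modules (ComplexShape.up ℤ) q)
    (fun i => (pushCx f).obj (I i)) _).symm ?_
  exact isColimitCofanMkObjOfIsColimit (Scheme.Modules.pushforward f) (fun i => (I i).X q) _
    (isColimitCofanMkObjOfIsColimit (HomologicalComplex.eval X.Modules (ComplexShape.up ℤ) q) I _
      (coproductIsCoproduct I))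

variable [DCoh.HasRpush f]

/-- `Rf_*` commutes with uniformly bounded below coproducts -/
theorem preservesColimit_Rpush_of_isGE (K : ι → DCoh.D X) (n : ℤ) (hK : ∀ i, (K i).IsGE n) :
    PreservesColimit (Discrete.functor K) (DCoh.Rpush f) := by
  have hEI : EnoughInjectives X.Modules := IsGrothendieckAbelian.enoughInjectives
  have key : ∀ i, ∃ I : CochainComplex X.Modules ℤ,
      I.IsStrictlyGE n ∧ (∀ q, Injective (I.X q)) ∧ Nonempty (Q.obj I ≅ K i) := fun i => by
    obtain ⟨L, _, ⟨e⟩⟩ := DerivedCategory.exists_iso_Q_obj_of_isGE (K i) n (hX := hK i)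
    obtain ⟨M, _, r, hr⟩ := CochainComplex.Plus.exists_quasiIso_injective ⟨L, ⟨n, inferInstance⟩⟩ n
    have : QuasiIso r.hom := by assumption
    exact ⟨((InjectiveObject.ι X.Modules).mapCochainComplexPlus.obj M).obj,
      inferInstanceAs (CochainComplex.IsStrictlyGE (((InjectiveObject.ι X.Modules).mapHomologicalComplex (ComplexShape.up ℤ)).obj M.obj) n),
      fun q => (M.obj.X q).property, ⟨(e ≪≫ asIso (Q.map r.hom)).symm⟩⟩
  choose I hI hinj e using key
  have hcol : ∀ q, IsColimit (Cofan.mk ((∐ I).X q) fun i => (Sigma.ι I i).f q) := fun q =>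
    isColimitCofanMkObjOfIsColimit (HomologicalComplex.eval _ (ComplexShape.up ℤ) q) I _
      (coproductIsCoproduct I)
  have hge : (∐ I).IsStrictlyGE n := by
    rw [CochainComplex.isStrictlyGE_iff]
    intro q hq
    rw [IsZero.iff_id_eq_zero]
    exact Cofan.IsColimit.hom_ext (hcol q) _ _ fun i =>
      (have := hI i; ((I i).isZero_of_isStrictlyGE n q hq).eq_of_src _ _)
  have hac : ∀ q, Acyclic.Acy (Scheme.Modules.pushforward f) ((∐ I).X q) := fun q =>
    Acyclic.acy_of_iso ((coproductIsCoproduct fun i => (I i).X q).coconePointUniqueUpToIso (hcol q))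
      (acy_of_qf f _ (qf_coproduct _ fun i => qf_injective _ (hinj i q)))
  have hS := isIso_toRpush_of_isStrictlyGE f (∐ I) n hac
  have hIi : ∀ i, IsIso ((toRpush f).app (I i)) := fun i =>
    have := hI i
    isIso_toRpush_of_isStrictlyGE f (I i) n fun q => @Acyclic.acy_of_injective _ _ _ _ _ _ _ _ _ _ (hinj i q)
  obtain ⟨h₁⟩ := Groth.Agent.DHA.KInj.nonempty_isColimit_Q (T := ι)
    Groth.Agent.KFlat.Products.exists_isKInjective_resolution (fun i => (pushCx f).obj (I i))
  obtain ⟨h₂⟩ := nonempty_isColimit_pushCx f I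
  let eP := (coproductIsCoproduct fun i => (pushCx f).obj (I i)).coconePointUniqueUpToIso h₂
  have h₃ : IsColimit (Cofan.mk ((pushQ f).obj (∐ I)) fun i => (pushQ f).map (Sigma.ι I i)) :=
    h₁.ofIsoColimit (Cocone.ext (Q.mapIso eP) (fun ⟨i⟩ => by
      change Q.map _ ≫ Q.map eP.hom = _
      rw [← Q.map_comp]
      exact congrArg Q.map ((coproductIsCoproduct fun i => (pushCx f).obj (I i)).comp_coconePointUniqueUpToIso_hom h₂ ⟨i⟩)))
  obtain ⟨hc⟩ := Groth.Agent.DHA.KInj.nonempty_isColimit_Q (T := ι)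
    Groth.Agent.KFlat.Products.exists_isKInjective_resolution I
  have : PreservesColimit (Discrete.functor fun i => Q.obj (I i)) (DCoh.Rpush f) := by
    refine preservesColimit_of_preserves_colimit_cocone hc ?_
    refine (isColimitMapCoconeCofanMkEquiv (DCoh.Rpush f) (fun i => Q.obj (I i)) _).symm ?_
    let w : Discrete.functor (fun i => (pushQ f).obj (I i)) ≅ Discrete.functor fun i => (DCoh.Rpush f).obj (Q.obj (I i)) :=
      Discrete.natIso fun i => @asIso _ _ ((pushQ f).obj (I i.as)) ((DCoh.Rpush f).obj (Q.obj (I i.as))) ((toRpush f).app (I i.as)) (hIi i.as)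
    refine IsColimit.equivOfNatIsoOfIso w _
      (Cofan.mk ((DCoh.Rpush f).obj (Q.obj (∐ I))) fun i => (DCoh.Rpush f).map (Q.map (Sigma.ι I i))) ?_ h₃
    exact (Cocone.ext (@asIso _ _ ((pushQ f).obj (∐ I)) ((DCoh.Rpush f).obj (Q.obj (∐ I))) ((toRpush f).app (∐ I)) hS) (fun ⟨i⟩ => by
        dsimp
        rw [Category.assoc]
        have := hIi i
        exact (IsIso.inv_comp_eq _).2 ((toRpush f).naturality (Sigma.ι I i))))
  exact preservesColimit_of_iso_diagram (DCoh.Rpush f)
    (Discrete.natIso fun i => (e i.as).some : (Discrete.functor fun i => Q.obj (I i)) ≅ Discrete.functor K)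

variable [HasCoproducts.{u} (DCoh.D X)] [HasCoproducts.{u} (DCoh.D Y)]

/-- `Rf_*` commutes with coproducts on `D_QCoh` -/
theorem isIso_sigmaComparison_Rpush (K : ι → DCoh.D X) (hK : ∀ i, DCoh.IsQCohD (K i)) :
    IsIso (sigmaComparison (DCoh.Rpush f) K) := by
  suffices ∀ m, IsIso ((homologyFunctor Y.Modules m).map (sigmaComparison (DCoh.Rpush f) K)) from
    (DerivedCategory.isIso_iff Y.Modules _).2 this
  intro m
  refine isIso_of_restrict ((homologyFunctor Y.Modules m).map (sigmaComparison (DCoh.Rpush f) K))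
    (fun V : Y.affineOpens => V.1) (iSup_affineOpens_eq_top Y) fun V => ?_
  let R := Scheme.Modules.restrictFunctor V.1.ι
  let G : DCoh.D Y ⥤ V.1.toScheme.Modules := homologyFunctor Y.Modules m ⋙ R
  have : IsAffine V.1.toScheme := V.2
  have := hasRpush (f ∣_ V.1)
  obtain ⟨β, B, d, hB, hd⟩ := exists_bound (f ∣_ V.1)
  let a : ℤ := m - d - 1
  let t := TStructure.t (C := X.Modules)
  let T := fun i => (t.triangleLTGE a).obj (K i)
  have hT : ∀ i, T i ∈ distinguishedTriangles := fun i => t.triangleLTGE_distinguished a (K i)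
  -- `Rf_*` of a bounded above object vanishes near degree `m`, over `V`
  have hiso : ∀ (S : Triangle (DCoh.D X)), S ∈ distinguishedTriangles → DCoh.IsQCohD S.obj₁ → S.obj₁.IsLE (a - 1) →
      IsIso (G.map ((DCoh.Rpush f).map S.mor₂)) := fun S hS hq hle => by
    obtain ⟨δ, hS'⟩ := Groth.Agent.KFlat.RPushTriangle.distinguished_Rpush f S hS
    let S'' := (DCoh.restrictD V.1.ι).mapTriangle.obj
      (Triangle.mk ((DCoh.Rpush f).map S.mor₁) ((DCoh.Rpush f).map S.mor₂) δ)
    have hS'' : S'' ∈ distinguishedTriangles := (DCoh.restrictD V.1.ι).map_distinguished _ hS'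
    have hr : DCoh.IsQCohD ((DCoh.restrictD (f ⁻¹ᵁ V.1).ι).obj S.obj₁) := fun k =>
      qcoh_iso (((MapHomology.iso (Scheme.Modules.restrictFunctor (f ⁻¹ᵁ V.1).ι) k).app S.obj₁).symm)
        (@Scheme.Modules.isQuasicoherent_restrictFunctor _ _ (f ⁻¹ᵁ V.1).ι _ _ (hq k))
    have hrle : ((DCoh.restrictD (f ⁻¹ᵁ V.1).ι).obj S.obj₁).IsLE (a - 1) := (isLE_iff _ _).2 fun k hk =>
      (Functor.map_isZero (Scheme.Modules.restrictFunctor (f ⁻¹ᵁ V.1).ι) (isZero_of_isLE S.obj₁ (a - 1) k hk)).of_iso
        ((MapHomology.iso (Scheme.Modules.restrictFunctor (f ⁻¹ᵁ V.1).ι) k).app S.obj₁)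
    have hz : ∀ k, m ≤ k → IsZero ((homologyFunctor _ k).obj S''.obj₁) := fun k hk =>
      (isZero_HD_Rpush (f ∣_ V.1) B hB _ k fun i => hom_zero (hd i) _ hr (a - 1) k (by omega)).of_iso
        ((homologyFunctor _ k).mapIso ((RPushBase.restrictRpushIso f V.1).app S.obj₁))
    have : Mono ((homologyFunctor _ m).map S''.mor₂) :=
      (HomologySequence.mono_homologyMap_mor₂_iff S'' hS'' m).2 ((hz m le_rfl).eq_of_src _ _)
    have : Epi ((homologyFunctor _ m).map S''.mor₂) :=
      (HomologySequence.epi_homologyMap_mor₂_iff S'' hS'' m (m + 1)).2 ((hz (m + 1) (by omega)).eq_of_tgt _ _)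
    exact (NatIso.isIso_map_iff (MapHomology.iso R m) ((DCoh.Rpush f).map S.mor₂)).1 (isIso_of_mono_of_epi ((homologyFunctor _ m).map S''.mor₂))
  -- the coproduct of the bounded above parts
  let T₀ := Triangle.mk (Limits.Sigma.map fun i => (T i).mor₁) (Limits.Sigma.map fun i => (T i).mor₂)
    (Sigma.desc fun i => (T i).mor₃ ≫ (shiftFunctor (DCoh.D X) (1 : ℤ)).map (Sigma.ι (fun i => (T i).obj₁) i))
  have hT₀ : T₀ ∈ distinguishedTriangles := Groth.Agent.DHA.Brown.coproductTriangle_distinguished T hT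
  have h₁ : IsIso (G.map ((DCoh.Rpush f).map T₀.mor₂)) := by
    refine hiso T₀ hT₀ (Groth.Agent.S1040.result X (fun i => (T i).obj₁) fun i => isQCohD_truncLT (hK i) a) ?_
    refine (isLE_iff _ _).2 fun k hk => ?_
    have := preservesColimit_homology (fun i => (T i).obj₁) k
    rw [IsZero.iff_id_eq_zero]
    refine Cofan.IsColimit.hom_ext
      (isColimitCofanMkObjOfIsColimit (homologyFunctor X.Modules k) (fun i => (T i).obj₁) _ (coproductIsCoproduct _)) _ _ fun i => ?_
    have : ((t.truncLT a).obj (K i)).IsLE (a - 1) := inferInstance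
    exact (isZero_of_isLE ((t.truncLT a).obj (K i)) (a - 1) k hk).eq_of_src _ _
  have h₂ : IsIso (G.map (Limits.Sigma.map fun i => (DCoh.Rpush f).map (T i).mor₂)) := by
    have hi : ∀ i, IsIso (G.map ((DCoh.Rpush f).map (T i).mor₂)) := fun i =>
      hiso (T i) (hT i) (isQCohD_truncLT (hK i) a) (inferInstanceAs (((t.truncLT a).obj (K i)).IsLE (a - 1)))
    let P₁ := fun i => (DCoh.Rpush f).obj (T i).obj₂
    let P₂ := fun i => (DCoh.Rpush f).obj (T i).obj₃
    have := preservesColimit_homology P₁ m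
    have := preservesColimit_homology P₂ m
    have c₁ := isColimitCofanMkObjOfIsColimit G P₁ _ (coproductIsCoproduct P₁)
    have c₂ := isColimitCofanMkObjOfIsColimit G P₂ _ (coproductIsCoproduct P₂)
    refine ⟨Cofan.IsColimit.desc c₂ (fun i => @inv _ _ _ _ _ (hi i) ≫ G.map (Sigma.ι P₁ i)), ?_, ?_⟩
    · refine Cofan.IsColimit.hom_ext c₁ _ _ fun i => ?_
      have := hi i
      change G.map (Sigma.ι P₁ i) ≫ _ ≫ _ = G.map (Sigma.ι P₁ i) ≫ 𝟙 _
      rw [← Functor.map_comp_assoc, Limits.Sigma.ι_map, Functor.map_comp, Category.assoc]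
      erw [Cofan.IsColimit.fac c₂]
      rw [IsIso.hom_inv_id_assoc, Category.comp_id]
    · refine Cofan.IsColimit.hom_ext c₂ _ _ fun i => ?_
      have := hi i
      change G.map (Sigma.ι P₂ i) ≫ _ ≫ _ = G.map (Sigma.ι P₂ i) ≫ 𝟙 _
      erw [Cofan.IsColimit.fac_assoc c₂]
      rw [Category.assoc, ← Functor.map_comp, Limits.Sigma.ι_map, Functor.map_comp, IsIso.inv_hom_id_assoc,
        Category.comp_id]
  have h₃ : IsIso (G.map (sigmaComparison (DCoh.Rpush f) fun i => (T i).obj₃)) := by
    have := preservesColimit_Rpush_of_isGE f (fun i => (T i).obj₃) a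
      fun i => (inferInstanceAs (((t.truncGE a).obj (K i)).IsGE a))
    infer_instance
  have hnat : sigmaComparison (DCoh.Rpush f) K ≫ (DCoh.Rpush f).map T₀.mor₂ =
      (Limits.Sigma.map fun i => (DCoh.Rpush f).map (T i).mor₂) ≫
        sigmaComparison (DCoh.Rpush f) (fun i => (T i).obj₃) := by
    refine Sigma.hom_ext _ _ fun i => ?_
    rw [ι_comp_sigmaComparison_assoc, ← Functor.map_comp]
    refine (congrArg (DCoh.Rpush f).map (Limits.Sigma.ι_map (fun i => (T i).mor₂) i)).trans ?_
    rw [Functor.map_comp]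
    symm
    refine ((Category.assoc _ _ _).symm.trans (congrArg (· ≫ _) (Limits.Sigma.ι_map (fun i => (DCoh.Rpush f).map (T i).mor₂) i))).trans ?_
    exact (Category.assoc _ _ _).trans (congrArg ((DCoh.Rpush f).map (T i).mor₂ ≫ ·) (ι_comp_sigmaComparison (DCoh.Rpush f) (fun i => (T i).obj₃) i))
  have : IsIso (G.map (sigmaComparison (DCoh.Rpush f) K) ≫ G.map ((DCoh.Rpush f).map T₀.mor₂)) := by
    rw [← G.map_comp, hnat, G.map_comp]
    exact IsIso.comp_isIso' h₂ h₃
  exact IsIso.of_isIso_comp_right (G.map (sigmaComparison (DCoh.Rpush f) K)) (G.map ((DCoh.Rpush f).map T₀.mor₂))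

end Groth.Agent.CohDerLib.QC
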