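import Groth.Agent.CohDerLib.QC.FreeMV
import Groth.Agent.CohAff.ResQcqs

/-!
# A vanishing bound for extensions from free modules on qcqs opens to quasi-coherent modules
-/

set_option backward.isDefEq.respectTransparency.types false
set_option backward.isDefEq.respectTransparency false

universe u

open CategoryTheory CategoryTheory.Limits AlgebraicGeometry TopologicalSpace DerivedCategory Pretriangulated
open Groth.Agent.KFlat.QCohAcy

attribute [local instance] HasDerivedCategory.standard preservesBinaryBiproducts_of_preservesBiproducts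

namespace Groth.Agent.CohDerLib.QC

variable {X : Scheme.{u}}

/-- `Extⁱ(P, F) = 0` for `i > d` and `F` quasi-coherent -/
def Van (d : ℕ) (P : X.Modules) : Prop :=
  ∀ (F : X.Modules), F.IsQuasicoherent → ∀ (a b : ℤ), b + d < a →
    ∀ f : (singleFunctor X.Modules a).obj P ⟶ (singleFunctor X.Modules b).obj F, f = 0

lemma Van.mono {d d' : ℕ} {P : X.Modules} (h : Van d P) (hd : d ≤ d') : Van d' P :=
  fun F hF a b hab f => h F hF a b (by omega) f

lemma van_free_of_isAffineOpen {U : X.Opens} (hU : IsAffineOpen U) : Van 0 (free U) :=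
  fun F hF a b hab f => acy_free hU (good_of_qcoh F hF) a b (by omega) f

lemma Van.biprod {d : ℕ} {P P' : X.Modules} (h : Van d P) (h' : Van d P') : Van d (P ⊞ P') := by
  intro F hF a b hab f
  have e : (singleFunctor X.Modules a).map biprod.fst ≫ (singleFunctor X.Modules a).map biprod.inl +
      (singleFunctor X.Modules a).map biprod.snd ≫ (singleFunctor X.Modules a).map biprod.inr =
      𝟙 ((singleFunctor X.Modules a).obj (P ⊞ P')) := by
    rw [← Functor.map_comp, ← Functor.map_comp, ← Functor.map_add, biprod.total, CategoryTheory.Functor.map_id]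
  rw [← Category.id_comp f, ← e, Preadditive.add_comp, Category.assoc, Category.assoc,
    h F hF a b hab ((singleFunctor X.Modules a).map biprod.inl ≫ f),
    h' F hF a b hab ((singleFunctor X.Modules a).map biprod.inr ≫ f), comp_zero, comp_zero, add_zero]

/-- dimension shift along a short exact sequence -/
lemma van_X₃ {S : ShortComplex X.Modules} (hS : S.ShortExact) {d : ℕ} (h₂ : Van (d + 1) S.X₂)
    (h₁ : Van d S.X₁) : Van (d + 1) S.X₃ := by
  intro F hF a b hab f
  let T := triangleOfSES (hS.map_of_exact (HomologicalComplex.single X.Modules (ComplexShape.up ℤ) a))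
  have hT : T ∈ distinguishedTriangles := triangleOfSES_distinguished _
  let f₀ : T.obj₃ ⟶ (singleFunctor X.Modules b).obj F := (singleQIso a S.X₃).inv ≫ f
  have h0 : T.mor₂ ≫ f₀ = 0 := by
    have := h₂ F hF a b hab ((singleQIso a S.X₂).hom ≫ T.mor₂ ≫ f₀)
    rwa [← cancel_epi (singleQIso a S.X₂).hom, comp_zero]
  obtain ⟨g, hg⟩ := Triangle.yoneda_exact₃ T hT f₀ h0
  let e : T.obj₁⟦(1 : ℤ)⟧ ≅ (singleFunctor X.Modules (a - 1)).obj S.X₁ :=
    (shiftFunctor _ (1 : ℤ)).mapIso (singleQIso a S.X₁).symm ≪≫
      ((DerivedCategory.singleFunctors X.Modules).shiftIso 1 (a - 1) a (by omega)).app S.X₁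
  have hg0 : g = 0 := by
    have := h₁ F hF (a - 1) b (by omega) (e.inv ≫ g)
    rwa [← cancel_epi e.inv, comp_zero]
  have hf0 : f₀ = 0 := by rw [hg, hg0, comp_zero]
  rwa [← cancel_epi (singleQIso a S.X₃).inv, comp_zero]

/-- Free modules on quasi-compact opens of a quasi-separated open have finite dimension for
quasi-coherent coefficients. -/
theorem exists_van {X₀ : X.Opens} (hqs : IsQuasiSeparated (X₀ : Set X)) {W : X.Opens} (hW : W ≤ X₀)
    (hc : IsCompact (W : Set X)) : ∃ d, Van d (free W) := by
  refine Groth.Agent.CohAff.compact_le_induction hqs (fun W _ => ∃ d, Van d (free W)) ?_ ?_ W hW hc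
  · exact fun A _ hA => ⟨0, van_free_of_isAffineOpen hA⟩
  · rintro U V h - - ⟨dU, hU⟩ ⟨dV, hV⟩ ⟨dW, hUV⟩
    refine ⟨max dU (max dV dW) + 1, van_X₃ (shortExact_mv U V) ?_ (hUV.mono (by omega))⟩
    exact (hU.mono (by omega)).biprod (hV.mono (by omega))

theorem exists_van_of_qcqs {W : X.Opens} (hc : IsCompact (W : Set X)) (hqs : IsQuasiSeparated (W : Set X)) :
    ∃ d, Van d (free W) :=
  exists_van hqs le_rfl hc

end Groth.Agent.CohDerLib.QC
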